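import Cfsg.Agent.Techniques.Functor.LocalGlobal
import Cfsg.Agent.Lib.Transfer.Fusion

/-!
Control of strong fusion and of transfer in the whole group.
-/

set_option autoImplicit false

namespace Cfsg.Agent.Techniques.Functor

open Cfsg Subgroup Cfsg.Agent.Fusion.SylIn

variable {G : Type*} [Group G]

/-- Control of transfer in `H`, computed in the Sylow subgroup `T` of `H`. -/
def TransferCtl (W : Set (Subgroup G → Subgroup G)) (H T : Subgroup G) : Prop :=
  T ⊓ ⁅H, H⁆ ≤ ⨆ w ∈ W, T ⊓ ⁅H ⊓ normalizer ((w T : Subgroup G) : Set G),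
    H ⊓ normalizer ((w T : Subgroup G) : Set G)⁆

theorem transfer_eq_of_ctl {W : Set (Subgroup G → Subgroup G)} {H T : Subgroup G}
    (h : TransferCtl W H T) :
    T ⊓ ⁅H, H⁆ = ⨆ w ∈ W, T ⊓ ⁅H ⊓ normalizer ((w T : Subgroup G) : Set G),
      H ⊓ normalizer ((w T : Subgroup G) : Set G)⁆ :=
  le_antisymm h (iSup₂_le fun _ _ => inf_le_inf_left _ (commutator_mono inf_le_left inf_le_left))

variable {p : ℕ}

theorem controlsTransfer_iff_family (w : Subgroup G → Subgroup G) (H : Subgroup G) :
    ControlsTransferIn p w H ↔ FamilyControlsTransferIn p {w} H := by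
  unfold ControlsTransferIn FamilyControlsTransferIn
  simp only [iSup_singleton]

theorem familyControlsTransfer_of_ctl {W : Set (Subgroup G → Subgroup G)} {H P : Subgroup G}
    (hP : SylIn p P H) (h : TransferCtl W H P) : FamilyControlsTransferIn p W H :=
  ⟨P, hP.1, hP.2.1, hP.2.2, transfer_eq_of_ctl h⟩

variable [Finite G] [Fact p.Prime] {W : Set (Subgroup G → Subgroup G)}

theorem transferCtl_of_familyControls (hW : ∀ w ∈ W, IsConjugacyFunctor p w) {H P : Subgroup G}
    (hP : SylIn p P H) (h : FamilyControlsTransferIn p W H) : TransferCtl W H P := by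
  obtain ⟨T, hTH, hT, hd, hc⟩ := h
  obtain ⟨k, hk, hle⟩ := exists_conj_le_of_not_dvd_relIndex hP.1 hP.2.1 hP.2.2 hT hTH
  have hkH : H.map (cnj k) = H := map_cnj_eq_self.mpr (le_normalizer hk)
  have hs : SylIn p (T.map (cnj k)) H := by
    have := sylIn_map (⟨hTH, hT, hd⟩ : SylIn p T H) k
    rwa [hkH] at this
  have he : T.map (cnj k) = P :=
    hs.eq_of_le (map_cnj_le_iff.mpr hle) hP.1 hP.2.1
  have h1 := congrArg (Subgroup.map (cnj k)) hc
  rw [Subgroup.map_inf _ _ _ (MulAut.conj k).injective, map_commutator, hkH, he,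
    Subgroup.map_iSup] at h1
  refine h1.le.trans (iSup_mono fun w => ?_)
  rw [Subgroup.map_iSup]
  refine iSup_mono fun hw => ?_
  rw [Subgroup.map_inf _ _ _ (MulAut.conj k).injective, map_commutator,
    Subgroup.map_inf _ _ _ (MulAut.conj k).injective, hkH, map_conj_normalizer,
    ← functor_map (hW w hw) hT, he]

theorem strongFusion_local_global (S : Sylow p G) (hW : ∀ w ∈ W, IsConjugacyFunctor p w)
    {good : Subgroup G → Prop} (hsel : Selection p (S : Subgroup G) good)
    (h : ∀ V : Subgroup G, V ≤ S → V ≠ ⊥ → good V →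
      FamilyControlsStrongFusionIn p W (normalizer (V : Set G))) :
    FamilyControlsStrongFusionIn p W ⊤ :=
  familyControls_of_fusionCtl (of_sylow S) (fusionCtl_top S hW hsel fun V hV hne hg =>
    fusionCtl_of_familyControls hW (hsel.syl V hV hg) (h V hV hne hg))

theorem transfer_local_global (S : Sylow p G) (hW : ∀ w ∈ W, IsConjugacyFunctor p w)
    {good : Subgroup G → Prop} (hsel : Selection p (S : Subgroup G) good)
    (h : ∀ V : Subgroup G, V ≤ S → V ≠ ⊥ → good V →
      FamilyControlsTransferIn p W (normalizer (V : Set G))) :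
    FamilyControlsTransferIn p W ⊤ := by
  refine familyControlsTransfer_of_ctl (of_sylow S) ?_
  have hfus := transfer_le S hW hsel
    (K := ⨆ w ∈ W, (S : Subgroup G) ⊓
      ⁅normalizer (w (S : Subgroup G) : Set G), normalizer (w (S : Subgroup G) : Set G)⁆)
    (fun w hw => le_iSup₂ (f := fun (v : Subgroup G → Subgroup G) (_ : v ∈ W) =>
      (S : Subgroup G) ⊓ ⁅normalizer (v (S : Subgroup G) : Set G),
        normalizer (v (S : Subgroup G) : Set G)⁆) w hw)
    (fun V hV hne hg => transferCtl_of_familyControls hW (hsel.syl V hV hg) (h V hV hne hg))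
  unfold TransferCtl
  simp only [top_inf_eq]
  rw [inf_comm, ← commutator_def]
  refine Cfsg.Agent.Transfer.Fusion.focal_le_of_fusion S fun x hx g hg => ⟨g, rfl, ?_⟩
  have := Subgroup.inv_mem _ (hfus g x hx hg)
  simpa [commutatorElement_def, mul_assoc] using this

end Cfsg.Agent.Techniques.Functor
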