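import Cfsg.Agent.Techniques.Functor.TransferMinimal

/-!
Consequences of the reduction of control of transfer to constrained sections.
-/

set_option autoImplicit false

namespace Cfsg.Agent.Techniques.Functor

universe u

open Cfsg Subgroup Cfsg.Agent.Fusion.SylIn Cfsg.Agent.PLocal.Cores
open scoped commutatorElement

variable {p : ℕ} [Fact p.Prime] {G : Type u} [Group G] [Finite G]
  {𝓦 : Set (∀ (Q : Type u) [Group Q], Subgroup Q)}

theorem kk_singleton (W : ∀ (Q : Type u) [Group Q], Subgroup Q) (S : Subgroup G) :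
    kk {W} S = S ⊓ ⁅normalizer ((inducedFunctor W S : Subgroup G) : Set G),
      normalizer ((inducedFunctor W S : Subgroup G) : Set G)⁆ := by
  rw [kk, induced, Set.image_singleton, iSup_singleton]

/-- Induction over the sections `K ⧸ R`. -/
theorem tc_of_quotients (h𝓦 : ∀ W ∈ 𝓦, IsCharPFunctor.{u} p W)
    (hloc : ∀ (K R : Subgroup G) [(R.subgroupOf K).Normal],
      (∀ L : Subgroup (↥K ⧸ R.subgroupOf K), L ≠ ⊤ → TC p 𝓦 L) →
      (∀ (N : Subgroup (↥K ⧸ R.subgroupOf K)) [N.Normal], N ≠ ⊥ →
        TC p 𝓦 ((↥K ⧸ R.subgroupOf K) ⧸ N)) →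
      centralizer (pCore p (↥K ⧸ R.subgroupOf K) : Set (↥K ⧸ R.subgroupOf K)) ≤
        pCore p (↥K ⧸ R.subgroupOf K) →
      ∀ S : Sylow p (↥K ⧸ R.subgroupOf K),
        pCore p (↥K ⧸ R.subgroupOf K) ⊓ commutator (↥K ⧸ R.subgroupOf K) ≤
          kk 𝓦 (S : Subgroup (↥K ⧸ R.subgroupOf K))) :
    ∀ (H : Type u) [Group H] [Finite H], IsSec G H → TC p 𝓦 H := by
  intro H
  induction hn : Nat.card H using Nat.strong_induction_on generalizing H with
  | _ n ih =>
  intro _ _ hsec
  subst hn
  obtain ⟨K, R, hR, ⟨e⟩⟩ := hsec.exists_quotient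
  have hc : Nat.card (↥K ⧸ R.subgroupOf K) = Nat.card H := Nat.card_congr e.toEquiv
  have hsub : ∀ L : Subgroup (↥K ⧸ R.subgroupOf K), L ≠ ⊤ → TC p 𝓦 L := fun L hL =>
    ih _ (hc ▸ card_subgroup_lt hL) L rfl ((isSec_quotient K R).sub L)
  have hquot : ∀ (N : Subgroup (↥K ⧸ R.subgroupOf K)) [N.Normal], N ≠ ⊥ →
      TC p 𝓦 ((↥K ⧸ R.subgroupOf K) ⧸ N) := fun N _ hN =>
    ih _ (hc ▸ card_quotient_lt hN) _ rfl
      ((isSec_quotient K R).surj (QuotientGroup.mk'_surjective N))
  exact tc_equiv h𝓦 e (tc_step h𝓦 hsub hquot (hloc K R hsub hquot))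

theorem pCore_inf_commutator_le_of_normal {W : ∀ (Q : Type u) [Group Q], Subgroup Q} (hW : W ∈ 𝓦)
    (S : Sylow p G) (h : (inducedFunctor (G := G) W (S : Subgroup G)).Normal) :
    pCore p G ⊓ commutator G ≤ kk 𝓦 (S : Subgroup G) := by
  refine le_trans (le_inf (inf_le_left.trans (pCore_le_sylow S)) ?_) (le_kk hW _)
  rw [normalizer_eq_top_iff.mpr h, ← commutator_def]
  exact inf_le_right

theorem exists_normal_index_prime {S : Sylow p G} (h : ¬ (S : Subgroup G) ≤ commutator G) :
    ∃ N : Subgroup G, N.Normal ∧ N.index = p := by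
  obtain ⟨N, hN, hi, hsup⟩ := Cfsg.Agent.Transfer.Fusion.exists_normal_inf_eq_focal S
  have hne : N ≠ ⊤ := by
    intro e
    rw [e, top_inf_eq] at hi
    exact h (hi.le.trans inf_le_left)
  have hp : IsPGroup p (G ⧸ N) := by
    refine IsPGroup.of_surjective S.2 ((QuotientGroup.mk' N).comp (S : Subgroup G).subtype)
      fun y => ?_
    obtain ⟨g, rfl⟩ := QuotientGroup.mk'_surjective _ y
    obtain ⟨n, hn, s, hs, rfl⟩ := mem_sup_of_normal_left.mp (hsup.ge (mem_top g) : g ∈ N ⊔ _)
    refine ⟨⟨s, hs⟩, ?_⟩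
    change QuotientGroup.mk' N s = QuotientGroup.mk' N (n * s)
    rw [map_mul, show QuotientGroup.mk' N n = 1 from (QuotientGroup.eq_one_iff n).mpr hn, one_mul]
  have hnt : Nontrivial (G ⧸ N) := by
    rw [← Finite.one_lt_card_iff_nontrivial, ← index_eq_card]
    exact one_lt_index_of_ne_top hne
  obtain ⟨R, hR, -⟩ := (eq_top_or_exists_le_coatom (⊥ : Subgroup (G ⧸ N))).resolve_left bot_ne_top
  have := hp.isNilpotent
  have hRn : R.Normal :=
    Subgroup.NormalizerCondition.normal_of_coatom R Group.normalizerCondition_of_isNilpotent hR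
  refine ⟨R.comap (QuotientGroup.mk' N), hRn.comap _, ?_⟩
  rw [index_comap_of_surjective _ (QuotientGroup.mk'_surjective N)]
  have hi' := Cfsg.Agent.Solvable.Basics.index_prime_of_normal_coatom hR
  obtain ⟨k, hk⟩ := hp.index R
  exact (Nat.prime_dvd_prime_iff_eq hi' (Fact.out : p.Prime)).mp (hi'.dvd_of_dvd_pow hk.dvd)

/-- The key step for `S1971`. -/
theorem not_sylow_le_commutator (W : ∀ (Q : Type u) [Group Q], Subgroup Q)
    (hW : IsCharPFunctor.{u} p W) :
    ∀ (H : Type u) [Group H] [Finite H], IsSec G H →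
      (∀ (K : Type u) [Group K] [Finite K], IsSec G K → TC p {W} K) →
      ∀ S : Sylow p H, (S : Subgroup H) ≠ ⊥ →
        (∀ g ∈ normalizer ((S : Subgroup H) : Set H), (orderOf g).Coprime p →
          g ∈ centralizer ((S : Subgroup H) : Set H)) →
        ¬ (S : Subgroup H) ≤ commutator H := by
  intro H
  induction hn : Nat.card H using Nat.strong_induction_on generalizing H with
  | _ n ih =>
  intro _ _ hsec htc S hS hN hle
  subst hn
  set X := inducedFunctor (G := H) W (S : Subgroup H) with hX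
  set N := normalizer (X : Set H) with hNdef
  have hWf : IsConjugacyFunctor p (inducedFunctor (G := H) W) := isConjugacyFunctor_induced hW
  have hSN : (S : Subgroup H) ≤ N := le_normalizer.trans (normalizer_le_functor hWf S.2)
  have hX1 : X ≤ S := functor_le hWf S.2
  have hX0 : X ≠ ⊥ := functor_ne_bot hWf S.2 hS
  by_cases hNtop : N = ⊤
  swap
  · -- pass to the normalizer
    have hSNN : (S : Subgroup H) ≤ ⁅N, N⁆ := by
      have := (htc H hsec S)
      rw [inf_eq_left.mpr hle, kk_singleton] at this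
      exact this.trans inf_le_right
    let R : Sylow p N := S.subtype hSN
    have hR : (R : Subgroup N) = (S : Subgroup H).subgroupOf N := rfl
    refine ih _ (card_subgroup_lt hNtop) N rfl (hsec.sub N) htc R ?_ ?_ ?_
    · intro e
      rw [hR] at e
      exact hS (by rw [← inf_eq_left.mpr hSN, ← subgroupOf_map_subtype, e, Subgroup.map_bot])
    · intro g hg hc
      have h1 : (g : H) ∈ normalizer ((S : Subgroup H) : Set H) := by
        have := le_normalizer_map N.subtype (mem_map_of_mem N.subtype hg)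
        rwa [hR, subgroupOf_map_subtype, inf_eq_left.mpr hSN] at this
      have h2 := hN g h1 (by rwa [Subgroup.orderOf_coe])
      exact mem_centralizer_iff.mpr fun s hs => Subtype.ext (mem_centralizer_iff.mp h2 s hs)
    · rw [hR, ← map_le_map_iff_of_injective N.subtype_injective, subgroupOf_map_subtype,
        inf_eq_left.mpr hSN, Subgroup.map_subtype_commutator]
      exact hSNN
  -- `W S` is normal
  have hXn : X.Normal := normalizer_eq_top_iff.mp hNtop
  set f := QuotientGroup.mk' X with hf
  let Sb : Sylow p (H ⧸ X) := S.mapSurjective (QuotientGroup.mk'_surjective X)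
  by_cases hSb : (Sb : Subgroup (H ⧸ X)) = ⊥
  · -- `S` is normal and `H = S C(S)`
    have hSX : (S : Subgroup H) ≤ X := by
      have h1 := (Subgroup.map_eq_bot_iff (S : Subgroup H)).mp hSb
      rwa [QuotientGroup.ker_mk'] at h1
    have hSeq : (S : Subgroup H) = X := le_antisymm hSX hX1
    have hnorm : normalizer ((S : Subgroup H) : Set H) = ⊤ := by rw [hSeq]; exact hNtop
    have key : ∀ s : ↥(S : Subgroup H), Abelianization.of s = 1 := by
      intro s
      refine map_eq_one_of_conj_congr _ S.2 S.not_dvd_index s.2 (hle s.2) fun g => ?_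
      have hq : g⁻¹ * s * g ∈ (S : Subgroup H) := by
        have := (Subgroup.mem_normalizer_iff.mp (hnorm.ge (mem_top g⁻¹)) (s : H)).mp s.2
        simpa using this
      refine ⟨hq, ?_⟩
      -- write `g` as a `p`-element times a `p'`-element
      obtain ⟨a, b, ha, hb, rfl⟩ : ∃ a b : H, a ∈ (S : Subgroup H) ∧
          b ∈ centralizer ((S : Subgroup H) : Set H) ∧ g = b * a := by
        have hSn : (S : Subgroup H).Normal := normalizer_eq_top_iff.mp hnorm
        obtain ⟨k, hk⟩ := Cfsg.Agent.Transfer.NormalPComplement.exists_pow_coprime (p := p)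
          (orderOf_pos g).ne'
        have hC : (centralizer ((S : Subgroup H) : Set H)).Normal := inferInstance
        have hg : g ∈ centralizer ((S : Subgroup H) : Set H) ⊔ (S : Subgroup H) := by
          set m := orderOf (g ^ p ^ k) with hm
          have hv : (g ^ m) ^ p ^ k = 1 := by
            rw [← pow_mul, mul_comm, pow_mul, hm, pow_orderOf_eq_one]
          obtain ⟨j, -, hj⟩ := (Nat.dvd_prime_pow (Fact.out : p.Prime)).mp
            (orderOf_dvd_of_pow_eq_one hv)
          obtain ⟨x, hx⟩ := exists_conj_le_sylow (isPGroup_zpowers hj) S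
          have hvS : g ^ m ∈ (S : Subgroup H) := by
            simpa [mul_assoc] using hSn.conj_mem _ (hx _ (mem_zpowers _)) x⁻¹
          have hbez : (1 : ℤ) = (p ^ k : ℕ) * Nat.gcdA (p ^ k) m + (m : ℤ) * Nat.gcdB (p ^ k) m := by
            rw [← Nat.gcd_eq_gcd_ab, Nat.Coprime.gcd_eq_one (hk.symm.pow_left k)]
            rfl
          rw [← zpow_one g, hbez, zpow_add, zpow_mul, zpow_mul, zpow_natCast, zpow_natCast]
          exact mul_mem_sup (Subgroup.zpow_mem _ (hN _ (hnorm.ge (mem_top _)) hk) _)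
            (Subgroup.zpow_mem _ hvS _)
        obtain ⟨b, hb, a, ha, rfl⟩ := mem_sup_of_normal_left.mp hg
        exact ⟨a, b, ha, hb, rfl⟩
      have hbs : b⁻¹ * s * b = s := by
        rw [mul_assoc, mem_centralizer_iff.mp hb s s.2, inv_mul_cancel_left]
      have e : (⟨(b * a)⁻¹ * s * (b * a), hq⟩ : ↥(S : Subgroup H)) =
          (⟨a, ha⟩ : ↥(S : Subgroup H))⁻¹ * s * ⟨a, ha⟩ := by
        refine Subtype.ext ?_
        calc (b * a)⁻¹ * s * (b * a) = a⁻¹ * (b⁻¹ * s * b) * a := by group
          _ = a⁻¹ * s * a := by rw [hbs]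
      rw [e, map_mul, map_mul, map_inv, mul_comm (Abelianization.of _)⁻¹, mul_assoc,
        inv_mul_cancel, mul_one]
    have : Nontrivial ↥(S : Subgroup H) := (Subgroup.nontrivial_iff_ne_bot _).mpr hS
    have := S.2.isNilpotent
    have hlt : commutator ↥(S : Subgroup H) < ⊤ := IsSolvable.commutator_lt_top_of_nontrivial _
    exact hlt.ne (top_le_iff.mp fun s _ => (QuotientGroup.eq_one_iff s).mp (key s))
  · -- pass to the quotient
    refine ih _ (card_quotient_lt hX0) _ rfl (hsec.surj (QuotientGroup.mk'_surjective X)) htc Sb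
      hSb ?_ ?_
    · intro y hy hc
      have hcomap : (Sb : Subgroup (H ⧸ X)).comap f = S := by
        refine comap_map_eq_self ?_
        rw [QuotientGroup.ker_mk']
        exact hX1
      obtain ⟨g, rfl⟩ := QuotientGroup.mk'_surjective X y
      have hg : g ∈ normalizer ((S : Subgroup H) : Set H) := by
        rw [← hcomap, ← comap_normalizer_eq_of_surjective _ (QuotientGroup.mk'_surjective X)]
        exact hy
      obtain ⟨k, hk⟩ := Cfsg.Agent.Transfer.NormalPComplement.exists_pow_coprime (p := p)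
        (orderOf_pos g).ne'
      have h1 := hN _ (Subgroup.pow_mem _ hg (p ^ k)) hk
      refine Cfsg.Agent.Transfer.NormalPComplement.mem_of_pow_mem (n := p ^ k)
        (Nat.Coprime.pow_right k hc) ?_
      rw [← map_pow, mem_centralizer_iff]
      rintro _ ⟨s, hs, rfl⟩
      rw [← map_mul, ← map_mul, mem_centralizer_iff.mp h1 s hs]
    · have := map_mono (f := f) hle
      rwa [commutator_def, map_commutator, map_top_of_surjective _ (QuotientGroup.mk'_surjective X),
        ← commutator_def] at this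

end Cfsg.Agent.Techniques.Functor
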