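import Cfsg.Agent.Techniques.Functor.FusionSections

/-!
Strong fusion: reduction to the constrained sections.
-/

set_option autoImplicit false

namespace Cfsg.Agent.Techniques.Functor

universe u

open Cfsg Subgroup Cfsg.Agent.Fusion.SylIn Cfsg.Agent.Transfer.NormalPComplement
open Cfsg.Agent.PLocal.Cores
open scoped commutatorElement

variable {p : ℕ} [Fact p.Prime] {G : Type u} [Group G] [Finite G]

/-- If all `p`-elements centralizing `O_p(G)` lie in it, and `O_{p'}(G) = 1`, then `G` is constrained. -/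
theorem centralizer_pCore_le (hK : pPrimeCore p G = ⊥)
    (h : ∀ x ∈ centralizer (pCore p G : Set G), (∃ k, orderOf x = p ^ k) → x ∈ pCore p G) :
    centralizer (pCore p G : Set G) ≤ pCore p G := by
  set C := centralizer (pCore p G : Set G) with hC
  have : C.Normal := by rw [hC]; infer_instance
  let R : Sylow p C := default
  have hR : ∀ r ∈ (R : Subgroup C), (r : G) ∈ pCore p G := by
    intro r hr
    obtain ⟨k, hk⟩ := IsPGroup.iff_orderOf.mp R.2 ⟨r, hr⟩
    rw [Subgroup.orderOf_mk] at hk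
    exact h _ r.2 ⟨k, by rw [Subgroup.orderOf_coe, hk]⟩
  have hN := hasNormalPComplement_of_normalizer_le_centralizer R fun x _ =>
    mem_centralizer_iff.mpr fun r hr => Subtype.ext (mem_centralizer_iff.mp x.2 r (hR r hr))
  obtain ⟨k, hk⟩ := hasNormalPComplement_iff_pPrimeCore.mp hN
  have hbot : pPrimeCore p C = ⊥ := by
    have h1 := map_subtype_pPrimeCore_le (p := p) C
    rw [hK, le_bot_iff, map_eq_bot_iff_of_injective _ C.subtype_injective] at h1
    exact h1
  rw [hbot, index_bot] at hk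
  intro x hx
  obtain ⟨j, -, hj⟩ := (Nat.dvd_prime_pow (Fact.out : p.Prime)).mp
    (hk ▸ orderOf_dvd_natCard (⟨x, hx⟩ : C))
  exact h x hx ⟨j, by rw [← hj, Subgroup.orderOf_mk]⟩

/-- A quotient `L / C` in which every element of order prime to `p` is trivial. -/
theorem relIndex_pow_of_coprime_mem {C L : Subgroup G} (hn : L ≤ normalizer (C : Set G))
    (hCL : C ≤ L) (h : ∀ x ∈ L, (orderOf x).Coprime p → x ∈ C) : ∃ k, C.relIndex L = p ^ k := by
  have : (C.subgroupOf L).Normal := normal_subgroupOf_iff_le_normalizer hCL |>.mpr hn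
  have hp : IsPGroup p (↥L ⧸ C.subgroupOf L) := by
    rw [isPGroup_iff_pow_pow_eq_one]
    intro x
    obtain ⟨g, rfl⟩ := QuotientGroup.mk_surjective x
    obtain ⟨k, hk⟩ := exists_pow_coprime (p := p) (orderOf_pos g).ne'
    refine ⟨k, (QuotientGroup.mk_pow _ g (p ^ k)).symm.trans ((QuotientGroup.eq_one_iff _).mpr ?_)⟩
    change ((g ^ p ^ k : L) : G) ∈ C
    exact h _ (g ^ p ^ k).2 (by rw [Subgroup.orderOf_coe]; exact hk)
  exact hp.exists_card_eq

/-- Elements normalizing `U` and trivial on `U` modulo `O_p` are products of an element of `N_S(U)`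
and one centralizing `U`, when `G` is generated by `S` and `C(O_p)`. -/
theorem le_nS_sup_centralizer (S : Sylow p G) {U : Subgroup G} (hUS : U ≤ S) (hQU : pCore p G ≤ U)
    (hsyl : SylIn p (nS S U) (normalizer (U : Set G)))
    (htop : (S : Subgroup G) ⊔ centralizer (pCore p G : Set G) = ⊤) :
    normalizer (U : Set G) ⊓ (centralizer (U.map (QuotientGroup.mk' (pCore p G)) :
        Set (G ⧸ pCore p G))).comap (QuotientGroup.mk' (pCore p G)) ≤
      nS S U ⊔ centralizer (U : Set G) := by
  set Q := pCore p G with hQ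
  set f := QuotientGroup.mk' Q with hf
  set N := normalizer (U : Set G) with hN
  set L := N ⊓ (centralizer (U.map f : Set (G ⧸ Q))).comap f with hL
  set C := centralizer (U : Set G) with hC
  have hCL : C ≤ L := le_inf (centralizer_le_normalizer _) fun x hx =>
    mem_centralizer_iff.mpr (by
      rintro _ ⟨a, ha, rfl⟩
      rw [← map_mul, ← map_mul, mem_centralizer_iff.mp hx a ha])
  have hNC : N ≤ normalizer (C : Set G) := by
    intro n hn
    have h := map_conj_centralizer n (U : Set G)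
    rw [show ((fun x => n * x * n⁻¹) '' (U : Set G)) = (U : Set G) from
      (cimg_subgroup n U).trans (congrArg SetLike.coe (map_cnj_eq_self.mpr hn))] at h
    exact map_cnj_eq_self.mp h
  have hNL : N ≤ normalizer (L : Set G) := by
    intro n hn
    rw [← map_cnj_eq_self, hL, Subgroup.map_inf _ _ _ (MulAut.conj n).injective,
      map_cnj_eq_self.mpr (le_normalizer hn)]
    congr 1
    refine map_cnj_eq_self.mpr ?_
    have h0 : f n ∈ normalizer (U.map f : Set (G ⧸ Q)) :=
      le_normalizer_map f (mem_map_of_mem f hn)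
    have h : f n ∈ normalizer (centralizer (U.map f : Set (G ⧸ Q)) : Set (G ⧸ Q)) := by
      have h := map_conj_centralizer (f n) (U.map f : Set (G ⧸ Q))
      rw [show ((fun x => f n * x * (f n)⁻¹) '' (U.map f : Set (G ⧸ Q))) = (U.map f : Set (G ⧸ Q))
        from (cimg_subgroup (f n) (U.map f)).trans
          (congrArg SetLike.coe (map_cnj_eq_self.mpr h0))] at h
      exact map_cnj_eq_self.mp h
    rw [mem_normalizer_iff] at h ⊢
    exact fun x => by simpa [mem_comap] using h (f x)
  have hCQ : (centralizer (Q : Set G)).Normal := by infer_instance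
  have hcop : ∀ x ∈ L, (orderOf x).Coprime p → x ∈ C := by
    intro u hu hcu
    have huQ : u ∈ centralizer (Q : Set G) := by
      set π := QuotientGroup.mk' (centralizer (Q : Set G)) with hπ
      have h1 : IsPGroup p (G ⧸ centralizer (Q : Set G)) := by
        refine IsPGroup.of_surjective S.2 (π.comp (S : Subgroup G).subtype) fun y => ?_
        obtain ⟨g, rfl⟩ := QuotientGroup.mk'_surjective _ y
        obtain ⟨s, hs, c, hc, rfl⟩ :=
          mem_sup_of_normal_right.mp (htop.ge (mem_top g) : g ∈ (S : Subgroup G) ⊔ _)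
        refine ⟨⟨s, hs⟩, ?_⟩
        change π s = π (s * c)
        rw [map_mul, show π c = 1 from (QuotientGroup.eq_one_iff c).mpr hc, mul_one]
      obtain ⟨k, hk⟩ := IsPGroup.iff_orderOf.mp h1 (π u)
      have h2 : p ^ k ∣ orderOf u := hk ▸ orderOf_map_dvd π u
      have h3 : p ^ k = 1 := Nat.eq_one_of_dvd_coprimes (hcu.pow_right k).symm dvd_rfl h2
      rw [← QuotientGroup.eq_one_iff]
      exact orderOf_eq_one_iff.mp (hk.trans h3)
    rw [mem_centralizer_iff]
    intro a ha
    set d := u * a * u⁻¹ * a⁻¹ with hd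
    have hdQ : d ∈ Q := by
      rw [← QuotientGroup.eq_one_iff]
      change f (u * a * u⁻¹ * a⁻¹) = 1
      simp only [map_mul, map_inv]
      rw [← mem_centralizer_iff.mp (mem_inf.mp hu).2 (f a) (mem_map_of_mem f ha)]
      group
    have hud : u * d * u⁻¹ = d := by
      rw [← mem_centralizer_iff.mp huQ d hdQ, mul_inv_cancel_right]
    have hk : ∀ k : ℕ, u ^ k * a * (u ^ k)⁻¹ = d ^ k * a := by
      intro k
      induction k with
      | zero => simp
      | succ k ih =>
        have hcomm : ∀ j : ℕ, u * d ^ j * u⁻¹ = d ^ j := fun j => by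
          rw [← MulAut.conj_apply, map_pow, MulAut.conj_apply, hud]
        calc u ^ (k + 1) * a * (u ^ (k + 1))⁻¹ = u * (u ^ k * a * (u ^ k)⁻¹) * u⁻¹ := by
              rw [pow_succ']; group
          _ = u * (d ^ k * a) * u⁻¹ := by rw [ih]
          _ = (u * d ^ k * u⁻¹) * (u * a * u⁻¹) := by group
          _ = d ^ k * (d * a) := by rw [hcomm, hd]; group
          _ = d ^ (k + 1) * a := by rw [pow_succ]; group
    have h1 : d ^ orderOf u = 1 := by
      have := hk (orderOf u)
      rw [pow_orderOf_eq_one, one_mul, inv_one, mul_one] at this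
      exact mul_right_cancel (this.symm.trans (one_mul a).symm)
    obtain ⟨j, hj⟩ := IsPGroup.iff_orderOf.mp (isPGroup_pCore (p := p) (G := G)) ⟨d, hdQ⟩
    rw [Subgroup.orderOf_mk] at hj
    have h2 : p ^ j = 1 := Nat.eq_one_of_dvd_coprimes (hcu.pow_right j).symm dvd_rfl
      (hj ▸ orderOf_dvd_of_pow_eq_one h1)
    have h3 : d = 1 := orderOf_eq_one_iff.mp (hj.trans h2)
    calc a * u = 1 * (a * u) := (one_mul _).symm
      _ = d * (a * u) := by rw [h3]
      _ = u * a := by rw [hd]; group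
  obtain ⟨k, hk⟩ := relIndex_pow_of_coprime_mem ((inf_le_left.trans hNC) : L ≤ _) hCL hcop
  have hPL := hsyl.inf_normal (N := L) inf_le_left hNL
  have hXL : nS S U ⊓ L ⊔ C ≤ L := sup_le inf_le_right hCL
  have h1 : (nS S U ⊓ L ⊔ C).relIndex L ∣ p ^ k := hk ▸ relIndex_dvd_of_le_left _ le_sup_right
  obtain ⟨j, -, hj⟩ := (Nat.dvd_prime_pow (Fact.out : p.Prime)).mp h1
  have h2 : (nS S U ⊓ L ⊔ C).relIndex L ∣ (nS S U ⊓ L).relIndex L :=
    relIndex_dvd_of_le_left _ le_sup_left
  rcases j with _ | j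
  · rw [pow_zero, relIndex_eq_one] at hj
    exact hj.trans (sup_le_sup_right inf_le_left _)
  · rw [hj] at h2
    exact absurd ((dvd_pow_self p (Nat.succ_ne_zero j)).trans h2) hPL.2.2

variable {𝓦 : Set (∀ (Q : Type u) [Group Q], Subgroup Q)}

theorem fc_step_of (h𝓦 : ∀ W ∈ 𝓦, IsCharPFunctor.{u} p W)
    (hsub : ∀ L : Subgroup G, L ≠ ⊤ → FC p 𝓦 L)
    (hquot' : pPrimeCore p G ≠ ⊥ → FC p 𝓦 (G ⧸ pPrimeCore p G))
    (hquot : pCore p G ≠ ⊥ →
      (∀ x : G, (orderOf x).Coprime p → x ∈ centralizer (pCore p G : Set G)) →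
      FC p 𝓦 (G ⧸ pCore p G))
    (hcons : centralizer (pCore p G : Set G) ≤ pCore p G → FC p 𝓦 G) : FC p 𝓦 G := by
  classical
  rcases ne_or_eq (pPrimeCore p G) ⊥ with hK | hK
  · refine fc_of_coprime_ker h𝓦 (QuotientGroup.mk'_surjective _) ?_ (hquot' hK)
    rw [QuotientGroup.ker_mk']
    exact coprime_card_pPrimeCore
  rcases eq_or_ne (pCore p G) ⊥ with hQ | hQ
  · intro S
    refine fusionCtl_top S (isConjugacyFunctor_of_mem h𝓦) (selection_sylIn S)
      fun V hV hne hg => fusionCtl_of_sub h𝓦 hg (hsub _ fun e => hne ?_)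
    have : V.Normal := normalizer_eq_top_iff.mp e
    exact le_bot_iff.mp (hQ ▸ le_pCore (S.2.to_le hV))
  by_cases hCQ : centralizer (pCore p G : Set G) ≤ pCore p G
  · exact hcons hCQ
  intro S A g _ hA hc
  set Q := pCore p G with hQdef
  set C := centralizer (Q : Set G) with hCdef
  have hCn : C.Normal := by rw [hCdef]; infer_instance
  have hQS : Q ≤ S := pCore_le_sylow S
  have hQn : Q.Normal := pCore_normal'
  set M := steps (induced 𝓦 G) ⊤ (S : Subgroup G) with hMdef
  set T := closure A ⊔ Q with hTdef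
  have hTS : T ≤ S := sup_le ((closure_le _).mpr hA) hQS
  have hgT : T.map (cnj g) ≤ S := by
    rw [hTdef, Subgroup.map_sup]
    exact sup_le (map_closure_le hc)
      ((map_cnj_eq_self.mpr (normalizer_eq_top_iff.mpr hQn ▸ mem_top g)).le.trans hQS)
  suffices hmain : Reach M S (T : Set G) g from hmain.mono fun a ha =>
    mem_sup_left (subset_closure ha)
  set C1 := Q ⊔ C with hC1
  have hC1n : C1.Normal := sup_normal _ _
  set S0 := (S : Subgroup G) ⊓ C1 with hS0
  have hS0syl : SylIn p S0 C1 :=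
    (of_sylow S).inf_normal le_top (by rw [normalizer_eq_top_iff.mpr hC1n])
  have hSS0 : (S : Subgroup G) ≤ normalizer (S0 : Set G) := by
    intro s hs
    rw [← map_cnj_eq_self, hS0, Subgroup.map_inf _ _ _ (MulAut.conj s).injective,
      map_cnj_eq_self.mpr (le_normalizer hs),
      map_cnj_eq_self.mpr (normalizer_eq_top_iff.mpr hC1n ▸ mem_top s)]
  have hM : normalizer (S0 : Set G) ≠ ⊤ := by
    intro e
    apply hCQ
    have : S0.Normal := normalizer_eq_top_iff.mp e
    have hS0Q : S0 ≤ Q := le_pCore (S.2.to_le inf_le_left)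
    refine centralizer_pCore_le hK fun x hx ⟨k, hk⟩ => hS0Q ?_
    obtain ⟨b, hb, hle⟩ := exists_conj_le_of_not_dvd_relIndex hS0syl.1 hS0syl.2.1 hS0syl.2.2
      (isPGroup_zpowers hk) (zpowers_le.mpr (mem_sup_right hx) : zpowers x ≤ C1)
    have := this.conj_mem _ (hle x (mem_zpowers x)) b⁻¹
    simpa [mul_assoc] using this
  by_cases htop : (S : Subgroup G) ⊔ C = ⊤
  swap
  · -- split the map between `N(S0)` and `S C(Q)`
    set H1 := (S : Subgroup G) ⊔ C
    obtain ⟨c, hc1, hle⟩ := exists_conj_le_of_not_dvd_relIndex hS0syl.1 hS0syl.2.1 hS0syl.2.2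
      ((hS0syl.2.1).map (cnj g))
      ((map_mono hS0syl.1).trans (map_cnj_eq_self.mpr (normalizer_eq_top_iff.mpr hC1n ▸ mem_top g)).le)
    have hcg : c * g ∈ normalizer (S0 : Set G) := by
      rw [← map_cnj_eq_self, ← map_cnj_cnj]
      exact eq_of_le_of_card_ge (map_cnj_le_iff.mpr hle)
        (by rw [card_map_cnj, card_map_cnj])
    have hC1H : C1 ≤ H1 := sup_le (hQS.trans le_sup_left) le_sup_right
    set X := T.map (cnj (c * g)) with hX
    have hXM : X ≤ normalizer (S0 : Set G) ⊓ H1 := by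
      refine le_inf ((map_mono (hTS.trans hSS0)).trans
        (map_cnj_eq_self.mpr (le_normalizer hcg)).le) ?_
      rw [hX, ← map_cnj_cnj]
      exact (map_mono (hgT.trans le_sup_left)).trans
        (map_cnj_eq_self.mpr (le_normalizer (hC1H hc1))).le
    have hsylS := sylIn_of_le S (le_inf hSS0 le_sup_left : _ ≤ normalizer (S0 : Set G) ⊓ H1)
    obtain ⟨d, hd, hdX⟩ := exists_conj_le_of_not_dvd_relIndex hsylS.1 hsylS.2.1 hsylS.2.2
      ((S.2.to_le hTS).map _) hXM
    have h1 : Reach M S (T : Set G) (d * (c * g)) := by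
      refine reach_of_sub h𝓦 S hSS0 (hsub _ hM) (mul_mem (mem_inf.mp hd).1 hcg) hTS ?_
      rw [cimg_subgroup, ← map_cnj_cnj]
      exact map_cnj_le_iff.mpr hdX
    have h2 := h1.trans (k := c⁻¹ * d⁻¹) (reach_of_sub h𝓦 S le_sup_left (hsub _ htop)
      (Subgroup.mul_mem _ (Subgroup.inv_mem _ (hC1H hc1)) (Subgroup.inv_mem _ (mem_inf.mp hd).2))
      (cimg_subset_of_reach h1 hTS) (by
        rw [cimg_cimg, show c⁻¹ * d⁻¹ * (d * (c * g)) = g by group, cimg_subgroup]
        exact hgT))
    rwa [show c⁻¹ * d⁻¹ * (d * (c * g)) = g by group] at h2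
  -- the case `G = S C(Q)`
  have hStop : (S : Subgroup G) ≠ ⊤ := by
    intro e
    have := isPGroup_iff_pCore_eq_top.mp ((e ▸ S.2 : IsPGroup p (⊤ : Subgroup G)).of_equiv topEquiv)
    exact hCQ (by rw [← hQdef] at this; rw [this]; exact le_top)
  have hcent : ∀ x : G, (orderOf x).Coprime p → x ∈ C := by
    intro x hx
    have h1 : C.index ∣ Nat.card (S : Subgroup G) := by
      rw [← relIndex_top_right, ← htop, relIndex_sup_right]
      exact relIndex_dvd_card C (S : Subgroup G)
    obtain ⟨k, hk⟩ := IsPGroup.iff_card.mp S.2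
    obtain ⟨j, -, hj⟩ := (Nat.dvd_prime_pow (Fact.out : p.Prime)).mp (hk ▸ h1)
    have h2 : (QuotientGroup.mk x : G ⧸ C) = 1 := by
      refine orderOf_eq_one_iff.mp (Nat.eq_one_of_dvd_coprimes (hx.pow_right j) ?_ ?_)
      · exact orderOf_map_dvd (QuotientGroup.mk' C) x
      · rw [← hj]; exact orderOf_dvd_natCard _
    exact (QuotientGroup.eq_one_iff x).mp h2
  set f := QuotientGroup.mk' Q with hf
  let Sb : Sylow p (G ⧸ Q) := S.mapSurjective (QuotientGroup.mk'_surjective Q)
  have hcomap : (Sb : Subgroup (G ⧸ Q)).comap f = S := by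
    refine comap_map_eq_self ?_
    rw [QuotientGroup.ker_mk']
    exact hQS
  have step : ∀ (U : Subgroup G) (y : G), U ≤ S → Q ≤ U →
      SylIn p (nS S U) (normalizer (U : Set G)) → y ∈ normalizer (U : Set G) →
      Reach M S (U : Set G) y := by
    intro U y hUS hQU hsyl hy
    have h1 := hquot hQ hcent Sb (f '' (U : Set G)) (f y) (mem_top _)
      (by rintro _ ⟨a, ha, rfl⟩; exact mem_map_of_mem f (hUS ha))
      (by
        rintro _ ⟨_, ⟨a, ha, rfl⟩, rfl⟩
        change f y * f a * (f y)⁻¹ ∈ (S : Subgroup G).map f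
        rw [← map_inv, ← map_mul, ← map_mul]
        exact mem_map_of_mem f (hUS ((Subgroup.mem_normalizer_iff.mp hy a).mp ha)))
    have hstep : ∀ (B : Set G) (z : G ⧸ Q),
        z ∈ steps (induced 𝓦 (G ⧸ Q)) ⊤ (Sb : Subgroup (G ⧸ Q)) →
        B ⊆ (S : Subgroup G) → cimg z (f '' B) ⊆ (Sb : Subgroup (G ⧸ Q)) →
        ∃ w, f w = z ∧ Reach M S B w := by
      rintro B z ⟨_, ⟨W, hW, rfl⟩, hz⟩ hB hzB
      obtain ⟨w, rfl⟩ := QuotientGroup.mk'_surjective Q z
      set V := inducedFunctor W (Sb : Subgroup (G ⧸ Q))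
      have hWf : IsConjugacyFunctor p (inducedFunctor (G := G ⧸ Q) W) :=
        isConjugacyFunctor_induced (h𝓦 W hW)
      have hSL : (S : Subgroup G) ≤ (normalizer (V : Set (G ⧸ Q))).comap f := by
        rw [← map_le_iff_le_comap]
        exact le_normalizer.trans (normalizer_le_functor hWf Sb.2)
      have hne : (normalizer (V : Set (G ⧸ Q))).comap f ≠ ⊤ := by
        intro e
        have h0 : normalizer (V : Set (G ⧸ Q)) = ⊤ :=
          comap_injective (QuotientGroup.mk'_surjective Q) (e.trans (comap_top f).symm)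
        have : V.Normal := normalizer_eq_top_iff.mp h0
        have hV : V = ⊥ := le_bot_iff.mp ((le_pCore (Sb.2.to_le (functor_le hWf Sb.2))).trans
          (pCore_quotient_pCore).le)
        have hSb : (Sb : Subgroup (G ⧸ Q)) = ⊥ :=
          by_contra fun hne => functor_ne_bot hWf Sb.2 hne hV
        have hSQ : (S : Subgroup G) = Q := by
          rw [← hcomap, hSb, MonoidHom.comap_bot, QuotientGroup.ker_mk']
        apply hM
        rw [hS0, hC1, ← hSQ, htop, inf_top_eq, hSQ]
        exact normalizer_eq_top_iff.mpr hQn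
      refine ⟨w, rfl, reach_of_sub h𝓦 S hSL (hsub _ hne) (mem_inf.mp hz).2 hB ?_⟩
      rintro _ ⟨b, hb, rfl⟩
      rw [SetLike.mem_coe, ← hcomap, mem_comap, map_mul, map_mul, map_inv]
      exact hzB ⟨f b, ⟨b, hb, rfl⟩, rfl⟩
    obtain ⟨n, hn, he⟩ := reach_lift h1 hstep U hUS rfl
    have hnU : n ∈ normalizer (U : Set G) := by
      rw [← map_cnj_eq_self]
      refine eq_of_le_of_card_ge (map_cnj_le_iff.mpr fun a ha => ?_) (card_map_cnj _ _).ge
      have h2 : n * a * n⁻¹ ∈ (U.map f).comap f := by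
        rw [mem_comap, he a ha, ← map_inv, ← map_mul, ← map_mul]
        exact mem_map_of_mem f ((Subgroup.mem_normalizer_iff.mp hy a).mp ha)
      rwa [comap_map_eq_self (by rw [QuotientGroup.ker_mk']; exact hQU)] at h2
    have hu : n⁻¹ * y ∈ normalizer (U : Set G) ⊓
        (centralizer (U.map f : Set (G ⧸ Q))).comap f := by
      refine mem_inf.mpr ⟨Subgroup.mul_mem _ (Subgroup.inv_mem _ hnU) hy,
        mem_centralizer_iff.mpr ?_⟩
      rintro _ ⟨a, ha, rfl⟩
      have h2 := he a ha
      simp only [map_mul, map_inv] at h2 ⊢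
      calc f a * ((f n)⁻¹ * f y) = (f n)⁻¹ * (f n * f a * (f n)⁻¹) * f y := by group
        _ = (f n)⁻¹ * (f y * f a * (f y)⁻¹) * f y := by rw [h2]
        _ = (f n)⁻¹ * f y * f a := by group
    have hu' := le_nS_sup_centralizer S hUS hQU hsyl htop hu
    have hnc : nS (S : Subgroup G) U ≤ normalizer (centralizer (U : Set G) : Set G) := by
      intro m hm
      have h := map_conj_centralizer m (U : Set G)
      rw [show ((fun x => m * x * m⁻¹) '' (U : Set G)) = (U : Set G) from
        (cimg_subgroup m U).trans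
          (congrArg SetLike.coe (map_cnj_eq_self.mpr (mem_inf.mp hm).2))] at h
      exact map_cnj_eq_self.mp h
    rw [← SetLike.mem_coe, coe_mul_of_left_le_normalizer_right _ _ hnc] at hu'
    obtain ⟨s, hs, c, hc', hsc⟩ := hu'
    have hcU : Reach M S (U : Set G) c := Reach.done _ _ fun a ha => by
      rw [← mem_centralizer_iff.mp hc' a ha, mul_inv_cancel_right]
    have hcimg : cimg c (U : Set G) = U := by
      rw [cimg_congr (h := (1 : G)) (fun a ha => by
        rw [← mem_centralizer_iff.mp hc' a ha, mul_inv_cancel_right]; simp), cimg_one]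
    have hsimg : cimg s (U : Set G) = U := by
      rw [cimg_subgroup, map_cnj_eq_self.mpr (mem_inf.mp hs).2]
    have h3 := hcU.trans (k := s) (by
      rw [hcimg]
      exact reach_of_sub h𝓦 S le_rfl (hsub _ hStop) (mem_inf.mp hs).1 hUS
        (by rw [hsimg]; exact hUS))
    have h4 := h3.trans (k := n) (by rw [← cimg_cimg, hcimg, hsimg]; exact hn)
    have e : n * (s * c) = y := by
      have hsc' : s * c = n⁻¹ * y := hsc
      rw [hsc']; group
    rwa [e] at h4
  have hchain := chain_of_forall_conj S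
    (F := {U | U ≤ (S : Subgroup G) ∧ SylIn p (nS S U) (normalizer (U : Set G))})
    (fun V hV => by
      obtain ⟨k, hk, hsy⟩ := exists_conj_sylIn S hV
      exact ⟨_, ⟨(map_mono (le_nS hV)).trans hk, hsy⟩, ⟨k, rfl⟩, hsy⟩)
    (fun U hU => hU.1) T g⁻¹ hTS (by rw [rimg_subgroup, inv_inv]; exact hgT)
  have hkey : ∀ (A : Set G) (x : G),
      Chain {U | U ≤ (S : Subgroup G) ∧ SylIn p (nS S U) (normalizer (U : Set G))} A x →
      (Q : Set G) ⊆ A → A ⊆ (S : Subgroup G) → Reach M S A x⁻¹ := by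
    intro A x h
    induction h with
    | nil A => exact fun _ _ => Reach.done _ _ fun a _ => by simp
    | @cons A g U x hU hAU hx _ ih =>
      intro hQA hAS
      have h1 := (step U x⁻¹ hU.1 (hQA.trans hAU) hU.2 (Subgroup.inv_mem _ hx)).mono hAU
      have e : rimg x A = cimg x⁻¹ A := by simp [rimg, cimg]
      rw [mul_inv_rev]
      refine h1.trans ?_
      rw [← e]
      refine ih (fun q hq => ⟨x * q * x⁻¹, hQA (hQn.conj_mem q hq x), by group⟩) ?_
      rw [e]
      exact cimg_subset_of_reach h1 hAS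
  have := hkey _ _ hchain (fun q hq => mem_sup_right hq) hTS
  rwa [inv_inv] at this

theorem fc_step (h𝓦 : ∀ W ∈ 𝓦, IsCharPFunctor.{u} p W)
    (hsub : ∀ L : Subgroup G, L ≠ ⊤ → FC p 𝓦 L)
    (hquot : ∀ (N : Subgroup G) [N.Normal], N ≠ ⊥ → FC p 𝓦 (G ⧸ N))
    (hcons : centralizer (pCore p G : Set G) ≤ pCore p G → FC p 𝓦 G) : FC p 𝓦 G :=
  fc_step_of h𝓦 hsub (fun h => hquot _ h) (fun h _ => hquot _ h) hcons

theorem fc_of_constrained (h𝓦 : ∀ W ∈ 𝓦, IsCharPFunctor.{u} p W)
    (hloc : ∀ (H : Type u) [Group H] [Finite H], IsSec G H →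
      centralizer (pCore p H : Set H) ≤ pCore p H → FC p 𝓦 H) :
    ∀ (H : Type u) [Group H] [Finite H], IsSec G H → FC p 𝓦 H := by
  intro H
  induction hn : Nat.card H using Nat.strong_induction_on generalizing H with
  | _ n ih =>
  intro _ _ hsec
  subst hn
  exact fc_step h𝓦 (fun L hL => ih _ (card_subgroup_lt hL) L rfl (hsec.sub L))
    (fun N _ hN => ih _ (card_quotient_lt hN) (H ⧸ N) rfl
      (hsec.surj (QuotientGroup.mk'_surjective N))) (hloc H hsec)

/-- Transport the hypothesis on constrained quotients `K ⧸ R` to all constrained sections. -/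
theorem fc_constrained_sections (h𝓦 : ∀ W ∈ 𝓦, IsCharPFunctor.{u} p W)
    (hloc : ∀ (K R : Subgroup G) [(R.subgroupOf K).Normal],
      centralizer (pCore p (↥K ⧸ R.subgroupOf K) : Set (↥K ⧸ R.subgroupOf K)) ≤
        pCore p (↥K ⧸ R.subgroupOf K) → FC p 𝓦 (↥K ⧸ R.subgroupOf K))
    (H : Type u) [Group H] [Finite H] (hH : IsSec G H)
    (hc : centralizer (pCore p H : Set H) ≤ pCore p H) : FC p 𝓦 H := by
  obtain ⟨K, R, hR, ⟨e⟩⟩ := hH.exists_quotient
  refine fc_equiv h𝓦 e (hloc K R fun x hx => ?_)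
  have h1 : e x ∈ pCore p H := hc (mem_centralizer_iff.mpr fun y hy => by
    replace hy : y ∈ pCore p H := hy
    rw [← map_pCore_equiv e] at hy
    obtain ⟨z, hz, rfl⟩ := hy
    change e z * e x = e x * e z
    rw [← map_mul, ← map_mul, mem_centralizer_iff.mp hx z hz])
  rw [← map_pCore_equiv e] at h1
  obtain ⟨z, hz, he⟩ := h1
  rwa [← e.injective he]

end Cfsg.Agent.Techniques.Functor
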