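import Cfsg.Prelude.Def_LocalEven
import Cfsg.Agent.Solvable.Basics
import Cfsg.Agent.Lib.PLocal.Cores
import Cfsg.Agent.Lib.PGroups.Basic

/-!
Chief factors below the `p`-core.
-/

set_option autoImplicit false

namespace Cfsg.Agent.Techniques.Functor

open Cfsg Subgroup Cfsg.Agent.PLocal.Cores

variable {G : Type*} [Group G] [Finite G] {p : ℕ} [Fact p.Prime] {U V : Subgroup G}

theorem chief_commutator_le (h : IsChiefFactor U V) (hU : U ≤ pCore p G) :
    ⁅U, pCore p G⁆ ≤ V := by
  obtain ⟨hVU, hUn, hVn, hmin⟩ := h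
  set Q := pCore p G with hQ
  have hQn : Q.Normal := pCore_normal'
  have hn : (⁅U, Q⁆ ⊔ V).Normal := sup_normal _ _
  rcases hmin _ hn le_sup_right (sup_le (commutator_le_left U Q) hVU.le) with e | e
  · exact le_sup_left.trans e.le
  · exfalso
    refine hVU.not_ge ?_
    have := (isPGroup_pCore (p := p) (G := G)).isNilpotent
    have h1 : U.subgroupOf Q ≤ V.subgroupOf Q := by
      refine Cfsg.Agent.PGroups.Basic.le_of_le_commutator_sup _ _ ?_
      rw [← map_le_map_iff_of_injective Q.subtype_injective, Subgroup.map_sup, map_commutator,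
        subgroupOf_map_subtype, subgroupOf_map_subtype, inf_eq_left.mpr hU,
        inf_eq_left.mpr (hVU.le.trans hU), ← MonoidHom.range_eq_map, Subgroup.range_subtype]
      exact e.ge
    rwa [subgroupOf, subgroupOf, ← map_le_iff_le_comap, ← subgroupOf,
      subgroupOf_map_subtype, inf_eq_left.mpr hU] at h1

theorem chief_pow_mem (h : IsChiefFactor U V) (hU : IsPGroup p U) {y : G} (hy : y ∈ U) :
    y ^ p ∈ V := by
  obtain ⟨hVU, hUn, hVn, hmin⟩ := h
  set N := (frattini U).map U.subtype ⊔ V with hN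
  have hNn : N.Normal := by
    have : ((frattini U).map U.subtype).Normal := inferInstance
    exact sup_normal _ _
  rcases hmin N hNn le_sup_right (sup_le (map_subtype_le _) hVU.le) with h | h
  · rw [← h]
    exact mem_sup_left ⟨⟨y, hy⟩ ^ p, Cfsg.Agent.Solvable.Basics.pow_mem_frattini hU _, rfl⟩
  · exfalso
    refine hVU.not_ge ?_
    have h1 : V.subgroupOf U = ⊤ := by
      refine frattini_nongenerating (top_le_iff.mp ?_)
      have h2 : (frattini U ⊔ V.subgroupOf U).map U.subtype = (⊤ : Subgroup U).map U.subtype := by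
        rw [Subgroup.map_sup, subgroupOf_map_subtype, inf_eq_left.mpr hVU.le, ← hN, h,
          ← MonoidHom.range_eq_map, Subgroup.range_subtype]
      rw [sup_comm]
      exact (map_injective U.subtype_injective h2).ge
    exact subgroupOf_eq_top.mp h1

/-- An abelian group acting faithfully on a group of exponent `p`, with order prime to `p`,
normalized by an element `g` with vanishing period sums, is centralized by `g`. -/
theorem action_trivial_of_sum {Γ A : Type*} [Group Γ] [CommGroup A] (ρ : Γ →* MulAut A)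
    {R : Subgroup Γ} [Finite R] (hR : ∀ a ∈ R, ∀ b ∈ R, a * b = b * a)
    (hcop : (Nat.card R).Coprime p) (hA : ∀ a : A, a ^ p = 1) {g : Γ}
    (hg : ∀ r ∈ R, g * r * g⁻¹ ∈ R) (hgo : IsOfFinOrder g) (hgp : ∃ k, orderOf g = p ^ k)
    (hsum : ∀ a : A, ∏ i ∈ Finset.range p, ρ (g ^ i) a = 1) :
    ∀ r ∈ R, ρ (r⁻¹ * (g * r * g⁻¹)) = 1 := by
  classical
  have hp : p.Prime := Fact.out
  let := Fintype.ofFinite R
  have hgi : ∀ (i : ℕ) (r : R), g ^ i * r * (g ^ i)⁻¹ ∈ R := by
    intro i r
    induction i with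
    | zero => simp
    | succ i ih =>
      rw [pow_succ', show g * g ^ i * (r : Γ) * (g * g ^ i)⁻¹ = g * (g ^ i * r * (g ^ i)⁻¹) * g⁻¹ by
        group]
      exact hg _ ih
  let φ : ℕ → R → R := fun i r => r⁻¹ * ⟨_, hgi i r⟩
  have hφ : ∀ i r s, φ i (r * s) = φ i r * φ i s := by
    intro i r s
    refine Subtype.ext ?_
    simp only [φ, Subgroup.coe_mul, Subgroup.coe_inv, mul_inv_rev]
    have e : g ^ i * ((r : Γ) * s) * (g ^ i)⁻¹ =
        (g ^ i * r * (g ^ i)⁻¹) * (g ^ i * s * (g ^ i)⁻¹) := by group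
    rw [e, ← mul_assoc, mul_assoc ((s : Γ))⁻¹, hR (s : Γ)⁻¹ (R.inv_mem s.2) _
      (R.mul_mem (R.inv_mem r.2) (hgi i r))]
    simp only [mul_assoc]
  intro r hr
  -- `W i` is the average of `a` twisted by `φ i`
  suffices hfix : ∀ a : A, ρ (φ 1 ⟨r, hr⟩ : R) a = a by
    refine MulEquiv.ext fun a => ?_
    simpa [φ] using hfix a
  intro a
  let W : ℕ → A := fun i => ∏ s : R, ρ (φ i s : R) (ρ (g ^ i) a)
  have hW : ∀ i s, ρ (φ i s : R) (W i) = W i := by
    intro i s
    simp only [W, map_prod]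
    refine Fintype.prod_equiv (Equiv.mulLeft s) _ _ fun t => ?_
    simp only [Equiv.coe_mulLeft, hφ, Subgroup.coe_mul, map_mul, MulAut.mul_apply]
  have hprod : ∏ i ∈ Finset.range p, W i = 1 := by
    rw [Finset.prod_comm]
    refine Finset.prod_eq_one fun s _ => ?_
    have h1 := congrArg (ρ ((s : Γ)⁻¹)) (hsum (ρ (s : Γ) a))
    rw [map_one, map_prod] at h1
    rw [← h1]
    refine Finset.prod_congr rfl fun i _ => ?_
    simp only [φ, Subgroup.coe_mul, Subgroup.coe_inv]
    rw [← MulAut.mul_apply, ← MulAut.mul_apply, ← MulAut.mul_apply, ← map_mul, ← map_mul,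
      ← map_mul]
    congr 2
    group
  have hW1 : ∀ i ∈ Finset.range p, i ≠ 0 → ρ (φ 1 ⟨r, hr⟩ : R) (W i) = W i := by
    intro i hi hi0
    obtain ⟨k, hk⟩ := hgp
    have hcop' : i.Coprime (p ^ k) := Nat.Coprime.pow_right k
      (Nat.coprime_comm.mp (hp.coprime_iff_not_dvd.mpr fun hd =>
        absurd (Nat.le_of_dvd (Nat.pos_of_ne_zero hi0) hd) (not_le.mpr (Finset.mem_range.mp hi))))
    obtain ⟨m, hm⟩ := exists_pow_eq_self_of_coprime (x := g) (hk.symm ▸ hcop')
    -- the image of `φ (i * m)` lies in the image of `φ i`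
    have key : ∀ m : ℕ, ∀ t : R, ρ (φ (i * m) t : R) (W i) = W i := by
      intro m
      induction m with
      | zero => intro t; simp [φ]
      | succ m ih =>
        intro t
        have e : φ (i * (m + 1)) t = φ (i * m) t * φ i ⟨_, hgi (i * m) t⟩ := by
          refine Subtype.ext ?_
          simp only [φ, Subgroup.coe_mul, Subgroup.coe_inv, Nat.mul_succ, pow_add]
          rw [show i * m = m * i from Nat.mul_comm i m]
          have hc : Commute (g ^ (m * i)) (g ^ i) := Commute.pow_pow_self g _ _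
          rw [hc.eq]
          group
        rw [e, Subgroup.coe_mul, map_mul, MulAut.mul_apply, hW, ih]
    have := key m ⟨r, hr⟩
    have e1 : φ (i * m) ⟨r, hr⟩ = φ 1 ⟨r, hr⟩ := by
      refine Subtype.ext ?_
      simp only [φ, Subgroup.coe_mul, Subgroup.coe_inv, pow_mul, hm, pow_one]
    rwa [e1] at this
  have hW0 : W 0 = a ^ Nat.card R := by
    simp [W, φ, Nat.card_eq_fintype_card]
  have h0 : ρ (φ 1 ⟨r, hr⟩ : R) (W 0) = W 0 := by
    have h1 := Finset.prod_erase_mul (Finset.range p) W (Finset.mem_range.mpr hp.pos)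
    rw [hprod] at h1
    rw [eq_inv_of_mul_eq_one_right h1, map_inv, map_prod]
    refine congrArg _ (Finset.prod_congr rfl fun i hi => ?_)
    obtain ⟨hi0, hi⟩ := Finset.mem_erase.mp hi
    exact hW1 i hi hi0
  rw [hW0, map_pow] at h0
  obtain ⟨m, -, hm⟩ := Nat.exists_mul_mod_eq_one_of_coprime hcop hp.one_lt
  have hpow : ∀ b : A, (b ^ Nat.card R) ^ m = b := fun b => by
    rw [← pow_mul, pow_eq_pow_mod (Nat.card R * m) (hA b), hm, pow_one]
  rw [← hpow (ρ (φ 1 ⟨r, hr⟩ : R) a), h0, hpow]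

end Cfsg.Agent.Techniques.Functor
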