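import Cfsg.Agent.Techniques.Functor.Reach

/-!
From control in normalizers of selected subgroups of a Sylow subgroup to control in the group.
-/

set_option autoImplicit false

namespace Cfsg.Agent.Techniques.Functor

open Cfsg Subgroup Cfsg.Agent.Fusion.SylIn

variable {G : Type*} [Group G] [Finite G] {p : ℕ} [Fact p.Prime]

/-- A selection of subgroups of `S` meeting every conjugacy class, with large normalizers in `S`. -/
structure Selection (p : ℕ) (S : Subgroup G) (good : Subgroup G → Prop) : Prop where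
  conj : ∀ T : Subgroup G, T ≤ S → ∃ k : G, (nS S T).map (cnj k) ≤ S ∧ good (T.map (cnj k))
  top : ∀ T : Subgroup G, T ≤ S → S ≤ normalizer (T : Set G) → good T
  syl : ∀ T : Subgroup G, T ≤ S → good T → SylIn p (nS S T) (normalizer (T : Set G))

theorem selection_sylIn (S : Sylow p G) :
    Selection p (S : Subgroup G) fun T => SylIn p (nS S T) (normalizer (T : Set G)) :=
  ⟨fun _ hT => exists_conj_sylIn S hT,
    fun T _ h => by
      change SylIn p (nS S T) _
      rw [nS_eq_self h]
      exact sylIn_of_le S h,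
    fun _ _ h => h⟩

theorem selection_wellPlaced (S : Sylow p G) {w : Subgroup G → Subgroup G}
    (hw : IsConjugacyFunctor p w) :
    Selection p (S : Subgroup G) (IsWellPlaced p w (S : Subgroup G)) :=
  ⟨fun _ hT => exists_conj_wellPlaced S hw hT,
    fun _ hT h => wellPlaced_of_le_normalizer S hw hT h, fun _ _ h => wellPlaced_sylIn S h⟩

omit [Fact p.Prime] in
theorem card_lt_card {H K : Subgroup G} (h : H < K) : Nat.card H < Nat.card K :=
  Set.Finite.card_lt_card (Set.toFinite _) (SetLike.coe_ssubset_coe.mpr h)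

theorem fusionCtl_top (S : Sylow p G) {W : Set (Subgroup G → Subgroup G)}
    (hW : ∀ w ∈ W, IsConjugacyFunctor p w) {good : Subgroup G → Prop}
    (hsel : Selection p (S : Subgroup G) good)
    (hloc : ∀ V : Subgroup G, V ≤ S → V ≠ ⊥ → good V →
      FusionCtl W (normalizer (V : Set G)) (nS S V)) :
    FusionCtl W ⊤ (S : Subgroup G) := by
  set M := steps W ⊤ (S : Subgroup G) with hMdef
  suffices main : ∀ d m, Nat.card (S : Subgroup G) - m = d →
      (∀ (U : Subgroup G) (g : G), Nat.card U = m → U ≤ S → U.map (cnj g) ≤ S →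
        Reach M S U g) ∧
      (∀ (V U : Subgroup G) (y : G), V ≠ ⊥ → V ≤ S → Nat.card (nS (S : Subgroup G) V) = m →
        y ∈ normalizer (V : Set G) → U ≤ nS S V → U.map (cnj y) ≤ nS S V → Reach M S U y) by
    intro A g _ hA hc
    exact (((main _ _ rfl).1 (closure A) g rfl ((closure_le _).mpr hA)
      (map_closure_le hc))).mono subset_closure
  intro d
  induction d using Nat.strong_induction_on with
  | _ d ih =>
  intro m hm
  have hB' : ∀ (V U : Subgroup G) (y : G), V ≠ ⊥ → V ≤ S →
      m < Nat.card (nS (S : Subgroup G) V) →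
      y ∈ normalizer (V : Set G) → U ≤ nS S V → U.map (cnj y) ≤ nS S V → Reach M S U y := by
    intro V U y hV hVS hlt
    have h0 : Nat.card (nS (S : Subgroup G) V) ≤ Nat.card (S : Subgroup G) :=
      card_le_of_le inf_le_left
    exact (ih _ (by omega) _ rfl).2 V U y hV hVS rfl
  have hA' : ∀ (U : Subgroup G) (g : G), m < Nat.card U → U ≤ S → U.map (cnj g) ≤ S →
      Reach M S U g := by
    intro U g hlt hU
    have := card_le_of_le hU
    exact (ih _ (by omega) _ rfl).1 U g rfl hU
  -- the case where the normalizer in S is everything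
  have hfull : ∀ (V U : Subgroup G) (y : G), V ≠ ⊥ → V ≤ S →
      (S : Subgroup G) ≤ normalizer (V : Set G) →
      y ∈ normalizer (V : Set G) → U ≤ S → U.map (cnj y) ≤ S → Reach M S U y := by
    intro V U y hV hVS hSV hy hU hc
    have h1 := hloc V hVS hV (hsel.top V hVS hSV)
    rw [nS_eq_self hSV] at h1
    refine (h1 (U : Set G) y hy hU (by rw [cimg_subgroup]; exact hc)).lift ?_ hU
    exact fun B z ⟨w, hw, hz⟩ _ hB =>
      Reach.single (show z ∈ M from ⟨w, hw, mem_inf.mpr ⟨mem_top z, (mem_inf.mp hz).2⟩⟩) hB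
  have hA : ∀ (U : Subgroup G) (g : G), Nat.card U = m → U ≤ S → U.map (cnj g) ≤ S →
      Reach M S U g := by
    intro U g hUm hU hg
    rcases eq_or_ne U ⊥ with rfl | hne
    · exact Reach.done _ _ fun a ha => by simp [mem_bot.mp ha]
    rcases eq_or_lt_of_le hU with rfl | hlt
    · have hgN : g ∈ normalizer ((S : Subgroup G) : Set G) :=
        map_cnj_eq_self.mp (eq_of_le_of_card_ge hg (card_map_cnj _ _).ge)
      exact hfull _ _ g hne le_rfl le_normalizer hgN le_rfl hg
    obtain ⟨k, hk, hgood⟩ := hsel.conj U hU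
    have hU' : U.map (cnj k) ≤ S := (map_mono (le_nS hU)).trans hk
    have hsyl := hsel.syl _ hU' hgood
    have hk1 : Reach M S U k := (hA' (nS (S : Subgroup G) U) k
      (hUm ▸ card_lt_card (lt_nS S.2 hlt)) inf_le_left hk).mono (le_nS hU)
    have hlt2 : U.map (cnj g) < S := lt_of_le_of_ne hg fun e => hlt.ne
      (eq_of_le_of_card_ge hU (by rw [← e, card_map_cnj]))
    have h2 : (nS (S : Subgroup G) (U.map (cnj g))).map (cnj (k * g⁻¹)) ≤
        normalizer (U.map (cnj k) : Set G) := by
      refine (map_mono inf_le_right).trans ?_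
      rw [map_conj_normalizer (k * g⁻¹) (U.map (cnj g)), map_cnj_cnj, inv_mul_cancel_right]
    obtain ⟨c, hc, hle⟩ := exists_conj_le_of_not_dvd_relIndex hsyl.1 hsyl.2.1 hsyl.2.2
      ((S.2.to_le inf_le_left).map _) h2
    have hk2 : Reach M S (U.map (cnj g) : Subgroup G) (c * (k * g⁻¹)) := by
      refine (hA' (nS (S : Subgroup G) (U.map (cnj g))) _ ?_ inf_le_left ?_).mono (le_nS hg)
      · have := card_lt_card (lt_nS S.2 hlt2)
        rw [card_map_cnj, hUm] at this
        exact this
      · rw [← map_cnj_cnj]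
        exact (map_cnj_le_iff.mpr hle).trans inf_le_left
    have hcU : (U.map (cnj k)).map (cnj c) = U.map (cnj k) := map_cnj_eq_self.mpr hc
    have hk2' := hk2.symm steps_inv hg
    rw [cimg_subgroup, map_cnj_cnj, show c * (k * g⁻¹) * g = c * k by group, ← map_cnj_cnj,
      hcU] at hk2'
    have hmid : Reach M S (U.map (cnj k) : Subgroup G) c := by
      refine hB' _ _ c (fun e => hne (map_cnj_eq_bot.mp e)) hU' ?_ hc (le_nS hU')
        (hcU.le.trans (le_nS hU'))
      rw [← hUm, ← card_map_cnj k U]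
      refine card_lt_card (lt_nS S.2 ?_)
      exact lt_of_le_of_ne hU' fun e => hlt.ne (eq_of_le_of_card_ge hU (by rw [← e, card_map_cnj]))
    have h12 := hk1.trans (k := c) (by rw [cimg_subgroup]; exact hmid)
    have h123 := h12.trans (k := (c * (k * g⁻¹))⁻¹)
      (by rw [cimg_subgroup, ← map_cnj_cnj, hcU]; exact hk2')
    simpa [mul_assoc] using h123
  refine ⟨hA, ?_⟩
  intro V U y hV hVS hVm hy hU hc
  rcases eq_or_lt_of_le (inf_le_left : nS (S : Subgroup G) V ≤ S) with h | h
  · exact hfull V U y hV hVS (h.symm.trans_le inf_le_right) hy (hU.trans inf_le_left)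
      (hc.trans inf_le_left)
  obtain ⟨k, hk, hgood⟩ := hsel.conj V hVS
  have hV' : V.map (cnj k) ≤ S := (map_mono (le_nS hVS)).trans hk
  set P := nS (S : Subgroup G) (V.map (cnj k)) with hP
  have hPp : IsPGroup p P := S.2.to_le inf_le_left
  have hmP : m ≤ Nat.card P := by
    rw [← hVm, ← card_map_cnj k]
    exact card_le_of_le (map_nS_le hk)
  have hkP : Reach M S (nS (S : Subgroup G) V) k := hA _ k hVm inf_le_left hk
  have hk1 : Reach M S U k := hkP.mono hU
  have hk2' := (hkP.mono (show ((U.map (cnj y) : Subgroup G) : Set G) ⊆ _ from hc)).symm steps_inv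
    (hc.trans inf_le_left)
  have hU1 : U.map (cnj k) ≤ P := (map_mono hU).trans (map_nS_le hk)
  have hy1 : k * y * k⁻¹ ∈ normalizer (V.map (cnj k) : Set G) :=
    (map_conj_normalizer k V).le (mem_map_of_mem _ hy)
  have hc1 : (U.map (cnj k)).map (cnj (k * y * k⁻¹)) ≤ P := by
    rw [map_cnj_cnj, show k * y * k⁻¹ * k = k * y by group, ← map_cnj_cnj]
    exact (map_mono hc).trans (map_nS_le hk)
  have hmid : Reach M S (U.map (cnj k) : Subgroup G) (k * y * k⁻¹) := by
    refine (hloc _ hV' (fun e => hV (map_cnj_eq_bot.mp e)) hgood _ _ hy1 hU1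
      (by rw [cimg_subgroup]; exact hc1)).lift ?_ hU1
    rintro B z ⟨w, hw, hz⟩ hB hzB
    rcases eq_or_lt_of_le (inf_le_left : P ≤ (S : Subgroup G)) with hPS | hPS
    · refine Reach.single (show z ∈ M from ⟨w, hw, mem_inf.mpr ⟨mem_top z, ?_⟩⟩)
        (hzB.trans inf_le_left)
      rw [← hPS]
      exact (mem_inf.mp hz).2
    · have hwS : w P ≤ S := (functor_le (hW w hw) hPp).trans inf_le_left
      have hle : P ≤ nS S (w P) := le_inf inf_le_left
        (le_normalizer.trans (normalizer_le_functor (hW w hw) hPp))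
      have hlt : P < nS S (w P) := lt_of_lt_of_le (lt_nS S.2 hPS)
        (inf_le_inf le_rfl (normalizer_le_functor (hW w hw) hPp))
      refine (hB' (w P) (closure B) z ?_ hwS ?_ (mem_inf.mp hz).2
        (((closure_le _).mpr hB).trans hle) ((map_closure_le hzB).trans hle)).mono subset_closure
      · refine functor_ne_bot (hW w hw) hPp fun e => hV ?_
        have h1 : V.map (cnj k) ≤ ⊥ := e ▸ (le_nS hV' : _ ≤ P)
        exact map_cnj_eq_bot.mp (le_bot_iff.mp h1)
      · exact hmP.trans_lt (card_lt_card hlt)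
  rw [cimg_subgroup, map_cnj_cnj] at hk2'
  have h12 := hk1.trans (k := k * y * k⁻¹) (by rw [cimg_subgroup]; exact hmid)
  rw [inv_mul_cancel_right] at h12
  have h123 := h12.trans (k := k⁻¹) (by rw [cimg_subgroup]; exact hk2')
  simpa [mul_assoc] using h123

/-- `x` and its conjugate by `g` agree modulo `K`. -/
theorem transfer_le (S : Sylow p G) {W : Set (Subgroup G → Subgroup G)}
    (hW : ∀ w ∈ W, IsConjugacyFunctor p w) {good : Subgroup G → Prop}
    (hsel : Selection p (S : Subgroup G) good) {K : Subgroup G}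
    (hK : ∀ w ∈ W, (S : Subgroup G) ⊓
      ⁅normalizer (w (S : Subgroup G) : Set G), normalizer (w (S : Subgroup G) : Set G)⁆ ≤ K)
    (hloc : ∀ V : Subgroup G, V ≤ S → V ≠ ⊥ → good V →
      nS S V ⊓ ⁅normalizer (V : Set G), normalizer (V : Set G)⁆ ≤
        ⨆ w ∈ W, nS S V ⊓ ⁅normalizer (V : Set G) ⊓ normalizer (w (nS S V) : Set G),
          normalizer (V : Set G) ⊓ normalizer (w (nS S V) : Set G)⁆) :
    ∀ (g x : G), x ∈ (S : Subgroup G) → g * x * g⁻¹ ∈ (S : Subgroup G) →
      g * x * g⁻¹ * x⁻¹ ∈ K := by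
  suffices main : ∀ d m, Nat.card (S : Subgroup G) - m = d →
      (∀ (U : Subgroup G) (g : G), Nat.card U = m → U ≤ S → U.map (cnj g) ≤ S →
        ∀ x ∈ U, g * x * g⁻¹ * x⁻¹ ∈ K) ∧
      (∀ V : Subgroup G, V ≠ ⊥ → V ≤ S → Nat.card (nS (S : Subgroup G) V) = m →
        nS (S : Subgroup G) V ⊓ ⁅normalizer (V : Set G), normalizer (V : Set G)⁆ ≤ K) by
    intro g x hx hg
    refine (main _ _ rfl).1 (zpowers x) g rfl (zpowers_le.mpr hx) ?_ x (mem_zpowers x)
    rw [MonoidHom.map_zpowers, zpowers_le]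
    exact hg
  intro d
  induction d using Nat.strong_induction_on with
  | _ d ih =>
  intro m hm
  have hB' : ∀ V : Subgroup G, V ≠ ⊥ → V ≤ S → m < Nat.card (nS (S : Subgroup G) V) →
      nS (S : Subgroup G) V ⊓ ⁅normalizer (V : Set G), normalizer (V : Set G)⁆ ≤ K := by
    intro V hV hVS hlt
    have h0 : Nat.card (nS (S : Subgroup G) V) ≤ Nat.card (S : Subgroup G) :=
      card_le_of_le inf_le_left
    exact (ih _ (by omega) _ rfl).2 V hV hVS rfl
  have hA' : ∀ (U : Subgroup G) (g : G), m < Nat.card U → U ≤ S → U.map (cnj g) ≤ S →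
      ∀ x ∈ U, g * x * g⁻¹ * x⁻¹ ∈ K := by
    intro U g hlt hU
    have := card_le_of_le hU
    exact (ih _ (by omega) _ rfl).1 U g rfl hU
  have hfull : ∀ V : Subgroup G, V ≠ ⊥ → V ≤ S → (S : Subgroup G) ≤ normalizer (V : Set G) →
      (S : Subgroup G) ⊓ ⁅normalizer (V : Set G), normalizer (V : Set G)⁆ ≤ K := by
    intro V hV hVS hSV
    have h1 := hloc V hVS hV (hsel.top V hVS hSV)
    rw [nS_eq_self hSV] at h1
    exact h1.trans (iSup₂_le fun w hw =>
      (inf_le_inf_left _ (commutator_mono inf_le_right inf_le_right)).trans (hK w hw))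
  have hA : ∀ (U : Subgroup G) (g : G), Nat.card U = m → U ≤ S → U.map (cnj g) ≤ S →
      ∀ x ∈ U, g * x * g⁻¹ * x⁻¹ ∈ K := by
    intro U g hUm hU hg x hx
    rcases eq_or_ne U ⊥ with rfl | hne
    · simp [mem_bot.mp hx, K.one_mem]
    rcases eq_or_lt_of_le hU with rfl | hlt
    · have hgN : g ∈ normalizer ((S : Subgroup G) : Set G) :=
        map_cnj_eq_self.mp (eq_of_le_of_card_ge hg (card_map_cnj _ _).ge)
      refine hfull _ hne le_rfl le_normalizer (mem_inf.mpr ⟨?_, ?_⟩)
      · exact Subgroup.mul_mem _ (map_cnj_le_iff.mp hg x hx) (Subgroup.inv_mem _ hx)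
      · exact commutator_mem_commutator hgN (le_normalizer hx)
    obtain ⟨k, hk, hgood⟩ := hsel.conj U hU
    have hU' : U.map (cnj k) ≤ S := (map_mono (le_nS hU)).trans hk
    have hsyl := hsel.syl _ hU' hgood
    have hk1 : k * x * k⁻¹ * x⁻¹ ∈ K := hA' (nS (S : Subgroup G) U) k
      (hUm ▸ card_lt_card (lt_nS S.2 hlt)) inf_le_left hk x (le_nS hU hx)
    have hlt2 : U.map (cnj g) < S := lt_of_le_of_ne hg fun e => hlt.ne
      (eq_of_le_of_card_ge hU (by rw [← e, card_map_cnj]))
    have h2 : (nS (S : Subgroup G) (U.map (cnj g))).map (cnj (k * g⁻¹)) ≤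
        normalizer (U.map (cnj k) : Set G) := by
      refine (map_mono inf_le_right).trans ?_
      rw [map_conj_normalizer (k * g⁻¹) (U.map (cnj g)), map_cnj_cnj, inv_mul_cancel_right]
    obtain ⟨c, hc, hle⟩ := exists_conj_le_of_not_dvd_relIndex hsyl.1 hsyl.2.1 hsyl.2.2
      ((S.2.to_le inf_le_left).map _) h2
    have hk2 : (c * (k * g⁻¹)) * (g * x * g⁻¹) * (c * (k * g⁻¹))⁻¹ * (g * x * g⁻¹)⁻¹ ∈ K := by
      refine hA' (nS (S : Subgroup G) (U.map (cnj g))) _ ?_ inf_le_left ?_ _
        (le_nS hg (conj_mem_map_conj hx))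
      · have := card_lt_card (lt_nS S.2 hlt2)
        rw [card_map_cnj, hUm] at this
        exact this
      · rw [← map_cnj_cnj]
        exact (map_cnj_le_iff.mpr hle).trans inf_le_left
    have hkx : k * x * k⁻¹ ∈ U.map (cnj k) := conj_mem_map_conj hx
    have hmid : c * (k * x * k⁻¹) * c⁻¹ * (k * x * k⁻¹)⁻¹ ∈ K := by
      refine hB' _ (fun e => hne (map_cnj_eq_bot.mp e)) hU' ?_ (mem_inf.mpr ⟨?_, ?_⟩)
      · rw [← hUm, ← card_map_cnj k U]
        refine card_lt_card (lt_nS S.2 ?_)
        exact lt_of_le_of_ne hU' fun e => hlt.ne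
          (eq_of_le_of_card_ge hU (by rw [← e, card_map_cnj]))
      · exact le_nS hU' (Subgroup.mul_mem _ ((Subgroup.mem_normalizer_iff.mp hc _).mp hkx)
          (Subgroup.inv_mem _ hkx))
      · exact commutator_mem_commutator hc (le_normalizer hkx)
    have := K.mul_mem (K.mul_mem (K.inv_mem hk2) hmid) hk1
    refine (congrArg (· ∈ K) ?_).mp this
    group
  refine ⟨hA, ?_⟩
  intro V hV hVS hVm
  rcases eq_or_lt_of_le (inf_le_left : nS (S : Subgroup G) V ≤ S) with h | h
  · rw [show nS (S : Subgroup G) V = S from h]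
    exact hfull V hV hVS (h.symm.trans_le inf_le_right)
  obtain ⟨k, hk, hgood⟩ := hsel.conj V hVS
  have hV' : V.map (cnj k) ≤ S := (map_mono (le_nS hVS)).trans hk
  set P := nS (S : Subgroup G) (V.map (cnj k)) with hP
  have hPp : IsPGroup p P := S.2.to_le inf_le_left
  have hmP : m ≤ Nat.card P := by
    rw [← hVm, ← card_map_cnj k]
    exact card_le_of_le (map_nS_le hk)
  intro a ha
  have h1 : k * a * k⁻¹ * a⁻¹ ∈ K := hA _ k hVm inf_le_left hk a (mem_inf.mp ha).1
  have h2 : k * a * k⁻¹ ∈ K := by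
    have h3 : k * a * k⁻¹ ∈
        P ⊓ ⁅normalizer (V.map (cnj k) : Set G), normalizer (V.map (cnj k) : Set G)⁆ := by
      refine mem_inf.mpr ⟨map_nS_le hk (mem_map_of_mem _ (mem_inf.mp ha).1), ?_⟩
      have := mem_map_of_mem (cnj k) (mem_inf.mp ha).2
      rw [map_commutator, map_conj_normalizer] at this
      exact this
    refine ((hloc _ hV' (fun e => hV (map_cnj_eq_bot.mp e)) hgood).trans ?_) h3
    refine iSup₂_le fun w hw => (inf_le_inf_left _
      (commutator_mono inf_le_right inf_le_right)).trans ?_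
    rcases eq_or_lt_of_le (inf_le_left : P ≤ (S : Subgroup G)) with hPS | hPS
    · rw [show nS (S : Subgroup G) (V.map (cnj k)) = S from hPS]
      exact hK w hw
    · have hwS : w P ≤ S := (functor_le (hW w hw) hPp).trans inf_le_left
      have hle : P ≤ nS S (w P) := le_inf inf_le_left
        (le_normalizer.trans (normalizer_le_functor (hW w hw) hPp))
      refine (inf_le_inf_right _ hle).trans (hB' _ ?_ hwS ?_)
      · refine functor_ne_bot (hW w hw) hPp fun e => hV ?_
        have h4 : V.map (cnj k) ≤ ⊥ := e ▸ (le_nS hV' : _ ≤ P)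
        exact map_cnj_eq_bot.mp (le_bot_iff.mp h4)
      · exact hmP.trans_lt (card_lt_card (lt_of_lt_of_le (lt_nS S.2 hPS)
          (inf_le_inf le_rfl (normalizer_le_functor (hW w hw) hPp))))
  have := K.mul_mem (K.inv_mem h1) h2
  simpa [mul_assoc] using this

end Cfsg.Agent.Techniques.Functor
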