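import Cfsg.Agent.Techniques.Functor.Sections
import Cfsg.Agent.Techniques.Functor.LocalGlobal
import Cfsg.Agent.Techniques.Functor.FusionMain
import Cfsg.Agent.Lib.Transfer.Frobenius

/-!
Thompson's normal `p`-complement criterion for functors.
-/

set_option autoImplicit false

namespace Cfsg.Agent.Techniques.Functor

universe u

open Cfsg Subgroup Cfsg.Agent.Fusion.SylIn Cfsg.Agent.PLocal.Cores
open Cfsg.Agent.Transfer.NormalPComplement

variable {p : ℕ} [Fact p.Prime]

/-- The criterion holds for `G`: a normal `p`-complement of some `N(W S)` gives one of `G`. -/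
def Criterion (p : ℕ) (W : ∀ (Q : Type u) [Group Q], Subgroup Q) (G : Type u) [Group G] : Prop :=
  ∀ S : Sylow p G, HasNormalPComplement p
    ↥(normalizer ((inducedFunctor (G := G) W (S : Subgroup G) : Subgroup G) : Set G)) →
      HasNormalPComplement p G

variable {W : ∀ (Q : Type u) [Group Q], Subgroup Q}
variable {G H : Type u} [Group G] [Group H] [Finite G]

theorem hnc_map_iff {X : Subgroup G} (g : G) :
    HasNormalPComplement p ↥(X.map (cnj g)) ↔ HasNormalPComplement p X :=
  (hasNormalPComplement_congr (X.equivMapOfInjective (cnj g) (MulAut.conj g).injective)).symm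

theorem hnc_sub (hW : IsCharPFunctor.{u} p W) {L T : Subgroup G} (hT : SylIn p T L)
    (hL : Criterion p W L)
    (h : HasNormalPComplement p
      ↥(normalizer ((inducedFunctor (G := G) W T : Subgroup G) : Set G))) :
    HasNormalPComplement p L := by
  obtain ⟨R, rfl⟩ := exists_sylow_map hT
  refine hL R ?_
  set N := normalizer ((inducedFunctor (G := L) W (R : Subgroup L) : Subgroup L) : Set L)
  have hle : N.map L.subtype ≤
      normalizer ((inducedFunctor (G := G) W ((R : Subgroup L).map L.subtype) : Subgroup G) :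
        Set G) := by
    rw [← induced_map_of_injective hW L.subtype_injective R.2]
    exact le_normalizer_map _
  exact (hasNormalPComplement_congr (N.equivMapOfInjective _ L.subtype_injective)).mpr
    (HasNormalPComplement.of_le hle h)

theorem criterion_equiv [Finite H] (hW : IsCharPFunctor.{u} p W) (e : G ≃* H)
    (h : Criterion p W G) : Criterion p W H := by
  intro S hN
  let R : Sylow p G := S.comapOfInjective e.toMonoidHom e.injective fun x _ => e.surjective x
  have hR : (R : Subgroup G).map e.toMonoidHom = S :=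
    map_comap_eq_self_of_surjective e.surjective _
  refine (hasNormalPComplement_congr e).mp (h R ?_)
  set N := normalizer ((inducedFunctor (G := G) W (R : Subgroup G) : Subgroup G) : Set G)
  have hle : N.map e.toMonoidHom ≤
      normalizer ((inducedFunctor (G := H) W (S : Subgroup H) : Subgroup H) : Set H) := by
    rw [← hR, ← induced_map_of_injective hW (f := e.toMonoidHom) e.injective R.2]
    exact le_normalizer_map _
  exact (hasNormalPComplement_congr (N.equivMapOfInjective e.toMonoidHom e.injective)).mpr
    (HasNormalPComplement.of_le hle hN)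

/-- The configuration left after the reduction. -/
structure Critical (p : ℕ) [Fact p.Prime] (W : ∀ (Q : Type u) [Group Q], Subgroup Q)
    (S : Sylow p G) : Prop where
  constrained : centralizer (pCore p G : Set G) ≤ pCore p G
  quotient : HasNormalPComplement p (G ⧸ pCore p G)
  coatom : IsCoatom (S : Subgroup G)
  not_normal : ¬ (inducedFunctor (G := G) W (S : Subgroup G)).Normal

/-- With trivial `p'`-core, complements modulo the core and in the proper overgroups of a Sylow subgroup,
a group without a normal `p`-complement is constrained with maximal Sylow subgroups. -/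
theorem constrained_coatom (S : Sylow p G) (hG : ¬ HasNormalPComplement p G)
    (hK : pPrimeCore p G = ⊥) (hquo : HasNormalPComplement p (G ⧸ pCore p G))
    (hLS : ∀ L : Subgroup G, (S : Subgroup G) ≤ L → L ≠ ⊤ → HasNormalPComplement p L) :
    centralizer (pCore p G : Set G) ≤ pCore p G ∧ IsCoatom (S : Subgroup G) := by
  classical
  set Q := pCore p G with hQdef
  have hQn : Q.Normal := pCore_normal'
  have hQS : Q ≤ S := pCore_le_sylow S
  set f := QuotientGroup.mk' Q with hf
  have hfs : Function.Surjective f := QuotientGroup.mk'_surjective Q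
  set C := centralizer (Q : Set G) with hCdef
  have hCn : C.Normal := by rw [hCdef]; infer_instance
  have hC : C ≤ Q := by
    obtain ⟨N, hNn, hNc, k, hk⟩ := hasNormalPComplement_iff_exists.mp hquo
    refine centralizer_pCore_le hK fun x hx ⟨j, hj⟩ => ?_
    -- the part of `C` over the complement
    set M := C ⊓ N.comap f with hMdef
    have hMn : M.Normal := inferInstance
    have hMc : HasNormalPComplement p M := by
      let R : Sylow p M := default
      have hR : ∀ r ∈ (R : Subgroup M), (r : G) ∈ Q := by
        intro r hr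
        obtain ⟨i, hi⟩ := IsPGroup.iff_orderOf.mp R.2 ⟨r, hr⟩
        rw [Subgroup.orderOf_mk, ← Subgroup.orderOf_coe] at hi
        rw [← QuotientGroup.eq_one_iff]
        change f r = 1
        obtain ⟨l, -, hl⟩ := (Nat.dvd_prime_pow (Fact.out : p.Prime)).mp
          (hi ▸ orderOf_map_dvd f (r : G))
        rw [← orderOf_eq_one_iff, hl]
        exact Nat.eq_one_of_dvd_coprimes (hNc.pow_right l).symm dvd_rfl
          (hl ▸ N.orderOf_dvd_natCard (mem_inf.mp r.2).2)
      exact hasNormalPComplement_of_normalizer_le_centralizer R fun z _ =>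
        mem_centralizer_iff.mpr fun r hr => Subtype.ext
          (mem_centralizer_iff.mp (mem_inf.mp z.2).1 r (hR r hr))
    obtain ⟨i, hi⟩ := hasNormalPComplement_iff_pPrimeCore.mp hMc
    have hbot : pPrimeCore p M = ⊥ := by
      have h1 := map_subtype_pPrimeCore_le (p := p) M
      rw [hK, le_bot_iff, map_eq_bot_iff_of_injective _ M.subtype_injective] at h1
      exact h1
    rw [hbot, index_bot] at hi
    have hMQ : M ≤ Q := le_pCore (IsPGroup.of_card hi)
    -- the image of `C` meets `N` trivially, so it is a normal `p`-subgroup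
    have hdisj : C.map f ⊓ N = ⊥ := by
      rw [eq_bot_iff]
      rintro _ ⟨⟨c, hc, rfl⟩, hcN⟩
      rw [mem_bot]
      exact (QuotientGroup.eq_one_iff c).mpr (hMQ (mem_inf.mpr ⟨hc, hcN⟩))
    have hCp : IsPGroup p ↥(C.map f) := by
      have hq : IsPGroup p ((G ⧸ Q) ⧸ N) := IsPGroup.of_card (hk ▸ (index_eq_card N).symm)
      refine hq.of_injective ((QuotientGroup.mk' N).comp (C.map f).subtype) ?_
      rw [← MonoidHom.ker_eq_bot_iff, ← MonoidHom.comap_ker, QuotientGroup.ker_mk',
        eq_bot_iff]
      intro c hc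
      rw [mem_bot]
      exact Subtype.ext (mem_bot.mp (hdisj.le (mem_inf.mpr ⟨c.2, hc⟩)))
    have : (C.map f).Normal := hCn.map f hfs
    have := (le_pCore hCp).trans (pCore_quotient_pCore).le (mem_map_of_mem f hx)
    exact (QuotientGroup.eq_one_iff x).mp (mem_bot.mp this)
  refine ⟨hC, ⟨?_, fun L hL => ?_⟩⟩
  · intro e
    exact hG (hasNormalPComplement_of_isPGroup ((e ▸ S.2 : IsPGroup p (⊤ : Subgroup G)).of_equiv topEquiv))
  · by_contra hne
    obtain ⟨N, hNn, hNc, k, hk⟩ := hasNormalPComplement_iff_exists.mp (hLS L hL.le hne)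
    refine hL.not_ge fun x hx => ?_
    have hdis : Q.subgroupOf L ⊓ N = ⊥ :=
      inf_eq_bot_of_isPGroup_of_coprime
        (((isPGroup_pCore (p := p) (G := G))).comap_subtype (K := L)) hNc
    have hNbot : N = ⊥ := by
      rw [eq_bot_iff]
      intro n hn
      have hnQ : (n : G) ∈ Q := hC (mem_centralizer_iff.mpr fun q hq => by
        have := commute_of_normal_of_disjoint (Q.subgroupOf L) N inferInstance hNn
          (disjoint_iff.mpr hdis) ⟨q, hL.le (hQS hq)⟩ n hq hn
        exact congrArg Subtype.val this.eq)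
      exact hdis.le (mem_inf.mpr ⟨hnQ, hn⟩)
    rw [hNbot, index_bot] at hk
    have hLp : IsPGroup p L := IsPGroup.of_card hk
    rw [← S.3 hLp hL.le]
    exact hx

theorem criterion_step (hW : IsCharPFunctor.{u} p W)
    (hsub : ∀ L : Subgroup G, L ≠ ⊤ → Criterion p W L)
    (hquot : ∀ (N : Subgroup G) [N.Normal], N ≠ ⊥ → Criterion p W (G ⧸ N))
    (hend : ∀ S : Sylow p G, ¬ Critical p W S) : Criterion p W G := by
  classical
  intro S hN
  by_contra hG
  set w := inducedFunctor (G := G) W with hw
  have hwf : IsConjugacyFunctor p w := isConjugacyFunctor_induced hW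
  have hnn : ¬ (w (S : Subgroup G)).Normal := fun h => hG <| by
    rw [normalizer_eq_top_iff.mpr h] at hN
    exact (hasNormalPComplement_congr topEquiv).mp hN
  have hSN : (S : Subgroup G) ≤ normalizer (w (S : Subgroup G) : Set G) :=
    le_normalizer.trans (normalizer_le_functor hwf S.2)
  have hLS : ∀ L : Subgroup G, (S : Subgroup G) ≤ L → L ≠ ⊤ → HasNormalPComplement p L :=
    fun L hS hL => hnc_sub hW (sylIn_of_le S hS) (hsub L hL) hN
  -- some nontrivial normal p-subgroup
  have hQ : pCore p G ≠ ⊥ := by
    intro hQ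
    set bad : Set (Subgroup G) := {V | V ≤ (S : Subgroup G) ∧ V ≠ ⊥ ∧
      SylIn p (nS (S : Subgroup G) V) (normalizer (V : Set G)) ∧
      ¬ HasNormalPComplement p ↥(normalizer (V : Set G))} with hbad
    have hconj : ∀ V : Subgroup G, V ≤ S → V ≠ ⊥ →
        ¬ HasNormalPComplement p ↥(normalizer (V : Set G)) →
        ∃ g, (nS (S : Subgroup G) V).map (cnj g) ≤ nS S (V.map (cnj g)) ∧ V.map (cnj g) ∈ bad := by
      intro V hV hne h
      obtain ⟨g, hg, hsyl⟩ := exists_conj_sylIn S hV
      refine ⟨g, map_nS_le hg, (map_mono (le_nS hV)).trans hg,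
        fun e => hne (map_cnj_eq_bot.mp e), hsyl, ?_⟩
      rw [← map_conj_normalizer, hnc_map_iff]
      exact h
    have hne : bad.Nonempty := by
      by_contra hne
      refine hG (Cfsg.Agent.Transfer.Frobenius.hasNormalPComplement_iff_normalizers.mpr
        fun V hV hV0 => by_contra fun h => hne ?_)
      obtain ⟨x, hx⟩ := exists_conj_le_sylow hV S
      obtain ⟨g, -, hg⟩ := hconj (V.map (cnj x)) (map_cnj_le_iff.mpr hx)
        (fun e => hV0 (map_cnj_eq_bot.mp e))
        (by rw [← map_conj_normalizer, hnc_map_iff]; exact h)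
      exact ⟨_, hg⟩
    obtain ⟨V, ⟨hVS, hV0, hsyl, hV⟩, hmax⟩ := Set.exists_max_image bad
      (fun V => Nat.card (nS (S : Subgroup G) V)) (Set.toFinite _) hne
    have hVtop : normalizer (V : Set G) ≠ ⊤ := fun e => hV0 <| by
      have : V.Normal := normalizer_eq_top_iff.mp e
      exact le_bot_iff.mp (hQ ▸ le_pCore (S.2.to_le hVS))
    refine hV (hnc_sub hW hsyl (hsub _ hVtop) ?_)
    rcases eq_or_lt_of_le (inf_le_left : nS (S : Subgroup G) V ≤ S) with h | h
    · rw [show nS (S : Subgroup G) V = S from h]
      exact hN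
    · have hTp : IsPGroup p ↥(nS (S : Subgroup G) V) := S.2.to_le inf_le_left
      have hU0 : w (nS (S : Subgroup G) V) ≠ ⊥ := functor_ne_bot hwf hTp fun e =>
        hV0 (le_bot_iff.mp (e ▸ le_nS hVS))
      by_contra hU
      obtain ⟨g, hg, hgbad⟩ := hconj _ ((functor_le hwf hTp).trans inf_le_left) hU0 hU
      have h1 : Nat.card (nS (S : Subgroup G) V) <
          Nat.card (nS (S : Subgroup G) (w (nS (S : Subgroup G) V))) :=
        card_lt_card (lt_of_lt_of_le (lt_nS S.2 h)
          (inf_le_inf le_rfl (normalizer_le_functor hwf hTp)))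
      have h2 : Nat.card (nS (S : Subgroup G) (w (nS (S : Subgroup G) V))) ≤
          Nat.card (nS (S : Subgroup G) ((w (nS (S : Subgroup G) V)).map (cnj g))) := by
        rw [← card_map_cnj g]
        exact card_le_of_le hg
      exact absurd (hmax _ hgbad) (not_le.mpr (h1.trans_le h2))
  set Q := pCore p G with hQdef
  have hQn : Q.Normal := pCore_normal'
  have hQS : Q ≤ S := pCore_le_sylow S
  -- no normal subgroup of order prime to p
  have hK : pPrimeCore p G = ⊥ := by
    by_contra hK
    set K := pPrimeCore p G with hKdef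
    set f := QuotientGroup.mk' K with hf
    have hfs : Function.Surjective f := QuotientGroup.mk'_surjective K
    let Sb : Sylow p (G ⧸ K) := S.mapSurjective hfs
    have hKc : (Nat.card f.ker).Coprime p := by
      rw [QuotientGroup.ker_mk']
      exact coprime_card_pPrimeCore
    have hinj : ∀ x ∈ (S : Subgroup G), f x = 1 → x = 1 := fun x hx he =>
      eq_one_of_mem_coprime S.2 hKc hx he
    set X := w (S : Subgroup G) with hXdef
    have hX : X ≤ S := functor_le hwf S.2
    have hXf : X.map f = inducedFunctor W (Sb : Subgroup (G ⧸ K)) := induced_map hW f S.2 hinj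
    have hle : normalizer ((inducedFunctor W (Sb : Subgroup (G ⧸ K)) : Subgroup (G ⧸ K)) :
        Set (G ⧸ K)) ≤ (normalizer (X : Set G)).map f := by
      intro z hz
      obtain ⟨z0, rfl⟩ := hfs z
      rw [← hXf] at hz
      have hle : X.map (cnj z0) ≤ X ⊔ f.ker := by
        rw [← comap_map_eq, ← map_le_iff_le_comap]
        rintro _ ⟨_, ⟨y, hy, rfl⟩, rfl⟩
        simpa [map_mul, map_inv] using
          (Subgroup.mem_normalizer_iff.mp hz (f y)).mp (mem_map_of_mem f hy)
      obtain ⟨c, hc', hcX⟩ := exists_conj_le_of_not_dvd_relIndex (le_sup_left : X ≤ X ⊔ f.ker)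
        (S.2.to_le hX) (relIndex_sup_coprime hKc (le_top.trans (normalizer_eq_top (H := f.ker)).ge))
        ((S.2.to_le hX).map (cnj z0)) hle
      obtain ⟨x0, hx0, k, hk, rfl⟩ := mem_sup_of_normal_right.mp hc'
      refine ⟨k * z0, ?_, by rw [map_mul, MonoidHom.mem_ker.mp hk, one_mul]⟩
      rw [SetLike.mem_coe, ← map_cnj_eq_self]
      refine eq_of_le_of_card_ge (map_cnj_le_iff.mpr fun y hy => ?_) (card_map_cnj _ _).ge
      have h3 := hcX _ (conj_mem_map_conj hy)
      have h4 := X.mul_mem (X.mul_mem (X.inv_mem hx0) h3) hx0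
      simpa [mul_assoc] using h4
    have h1 := hquot K hK Sb (HasNormalPComplement.of_le hle
      (HasNormalPComplement.of_surjective (f.subgroupMap_surjective _) hN))
    refine hG (hasNormalPComplement_iff_pPrimeCore.mpr ?_)
    obtain ⟨k, hk⟩ := hasNormalPComplement_iff_pPrimeCore.mp h1
    rw [show pPrimeCore p (G ⧸ K) = ⊥ from pPrimeCore_quotient_pPrimeCore, index_bot,
      ← index_eq_card] at hk
    exact ⟨k, hk⟩
  -- the quotient by the core
  have hSQ : (S : Subgroup G) ≠ Q := by
    intro e
    have hSn : ((S : Subgroup G)).Normal := e ▸ hQn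
    exact hnn (normalizer_eq_top_iff.mp (top_le_iff.mp
      ((normalizer_eq_top_iff.mpr hSn).ge.trans (normalizer_le_functor hwf S.2))))
  set f := QuotientGroup.mk' Q with hf
  have hfs : Function.Surjective f := QuotientGroup.mk'_surjective Q
  have hquo : HasNormalPComplement p (G ⧸ Q) := by
    let Sb : Sylow p (G ⧸ Q) := S.mapSurjective hfs
    have hcomap : (Sb : Subgroup (G ⧸ Q)).comap f = S := by
      refine comap_map_eq_self ?_
      rw [QuotientGroup.ker_mk']
      exact hQS
    refine hquot Q hQ Sb ?_
    have hwq : IsConjugacyFunctor p (inducedFunctor (G := G ⧸ Q) W) :=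
      isConjugacyFunctor_induced hW
    set V := inducedFunctor W (Sb : Subgroup (G ⧸ Q)) with hV
    set L := (normalizer (V : Set (G ⧸ Q))).comap f with hLdef
    have hSL : (S : Subgroup G) ≤ L := by
      rw [hLdef, ← map_le_iff_le_comap]
      exact le_normalizer.trans (normalizer_le_functor hwq Sb.2)
    have hne : L ≠ ⊤ := by
      intro e
      have h0 : normalizer (V : Set (G ⧸ Q)) = ⊤ :=
        comap_injective hfs (e.trans (comap_top f).symm)
      have : V.Normal := normalizer_eq_top_iff.mp h0
      have hV0 : V = ⊥ := le_bot_iff.mp ((le_pCore (Sb.2.to_le (functor_le hwq Sb.2))).trans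
        (pCore_quotient_pCore).le)
      have hSb : (Sb : Subgroup (G ⧸ Q)) = ⊥ :=
        by_contra fun hne => functor_ne_bot hwq Sb.2 hne hV0
      exact hSQ (by rw [← hcomap, hSb, MonoidHom.comap_bot, QuotientGroup.ker_mk'])
    have h1 := HasNormalPComplement.of_surjective (f.subgroupMap_surjective L) (hLS L hSL hne)
    refine HasNormalPComplement.of_le ?_ h1
    rw [hLdef, map_comap_eq_self_of_surjective hfs]
  obtain ⟨hC, hco⟩ := constrained_coatom S hG hK hquo hLS
  exact hend S ⟨hC, hquo, hco, hnn⟩

theorem criterion_of_sections (hW : IsCharPFunctor.{u} p W)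
    (hend : ∀ (K R : Subgroup G) [(R.subgroupOf K).Normal]
      (S : Sylow p (↥K ⧸ R.subgroupOf K)), ¬ Critical p W S) :
    ∀ (H : Type u) [Group H] [Finite H], IsSec G H → Criterion p W H := by
  intro H
  induction hn : Nat.card H using Nat.strong_induction_on generalizing H with
  | _ n ih =>
  intro _ _ hsec
  subst hn
  obtain ⟨K, R, hR, ⟨e⟩⟩ := hsec.exists_quotient
  have hc : Nat.card (↥K ⧸ R.subgroupOf K) = Nat.card H := Nat.card_congr e.toEquiv
  have hsub : ∀ L : Subgroup (↥K ⧸ R.subgroupOf K), L ≠ ⊤ → Criterion p W L := fun L hL =>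
    ih _ (hc ▸ card_subgroup_lt hL) L rfl ((isSec_quotient K R).sub L)
  have hquot : ∀ (N : Subgroup (↥K ⧸ R.subgroupOf K)) [N.Normal], N ≠ ⊥ →
      Criterion p W ((↥K ⧸ R.subgroupOf K) ⧸ N) := fun N _ hN =>
    ih _ (hc ▸ card_quotient_lt hN) _ rfl
      ((isSec_quotient K R).surj (QuotientGroup.mk'_surjective N))
  exact criterion_equiv hW e (criterion_step hW hsub hquot (hend K R))

end Cfsg.Agent.Techniques.Functor
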