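import Cfsg.Agent.Base.RecEqns
import Cfsg.Prelude.Def_ConjugacyFunctors
import Cfsg.Agent.Techniques.Sylow
import Cfsg.Agent.Lib.Fusion.SylIn

/-!
Conjugacy functors: normalizers in a fixed Sylow subgroup, well-placed subgroups.
-/

set_option autoImplicit false

namespace Cfsg.Agent.Techniques.Functor

open Cfsg Subgroup Cfsg.Agent.Fusion.SylIn

variable {G : Type*} [Group G]

/-- Conjugation as a homomorphism. -/
abbrev cnj (g : G) : G →* G := (MulAut.conj g).toMonoidHom

theorem cnj_apply (g x : G) : cnj g x = g * x * g⁻¹ := rfl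

theorem mem_map_cnj {g x : G} {H : Subgroup G} : x ∈ H.map (cnj g) ↔ g⁻¹ * x * g ∈ H :=
  mem_map_conj

theorem map_cnj_le_iff {g : G} {H K : Subgroup G} :
    H.map (cnj g) ≤ K ↔ ∀ x ∈ H, g * x * g⁻¹ ∈ K :=
  map_conj_le_iff

theorem map_cnj_cnj (g h : G) (H : Subgroup G) :
    (H.map (cnj g)).map (cnj h) = H.map (cnj (h * g)) :=
  map_conj_conj g h H

theorem map_cnj_one (H : Subgroup G) : H.map (cnj (1 : G)) = H := map_conj_one H

theorem map_cnj_eq_self {g : G} {H : Subgroup G} :
    H.map (cnj g) = H ↔ g ∈ normalizer (H : Set G) := by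
  rw [mem_normalizer_iff]
  refine ⟨fun h x => ?_, fun h => ?_⟩
  · conv_rhs => rw [← h, mem_map_cnj]
    simp [mul_assoc]
  · ext x
    rw [mem_map_cnj, h (g⁻¹ * x * g)]
    simp [mul_assoc]

theorem card_map_cnj (g : G) (H : Subgroup G) : Nat.card (H.map (cnj g)) = Nat.card H :=
  (Nat.card_congr (H.equivMapOfInjective _ (MulAut.conj g).injective).toEquiv).symm

theorem map_cnj_eq_bot {g : G} {H : Subgroup G} : H.map (cnj g) = ⊥ ↔ H = ⊥ :=
  map_eq_bot_iff_of_injective _ (MulAut.conj g).injective

theorem sylIn_map {p : ℕ} {A B : Subgroup G} (h : SylIn p A B) (g : G) :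
    SylIn p (A.map (cnj g)) (B.map (cnj g)) :=
  ⟨map_mono h.1, h.2.1.map _, by rw [relIndex_map_conj]; exact h.2.2⟩

/-- The normalizer in `S`. -/
abbrev nS (S T : Subgroup G) : Subgroup G := S ⊓ normalizer (T : Set G)

theorem le_nS {S T : Subgroup G} (h : T ≤ S) : T ≤ nS S T := le_inf h le_normalizer

theorem nS_eq_self {S T : Subgroup G} (h : S ≤ normalizer (T : Set G)) : nS S T = S :=
  inf_eq_left.mpr h

theorem map_nS_le {S T : Subgroup G} {g : G} (h : (nS S T).map (cnj g) ≤ S) :
    (nS S T).map (cnj g) ≤ nS S (T.map (cnj g)) := by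
  refine le_inf h ?_
  rw [← map_conj_normalizer]
  exact map_mono inf_le_right

variable [Finite G] {p : ℕ} [Fact p.Prime]

theorem lt_nS {S T : Subgroup G} (hS : IsPGroup p S) (h : T < S) : T < nS S T := by
  have hnc : NormalizerCondition ↥S := by
    have := hS.isNilpotent
    exact Group.normalizerCondition_of_isNilpotent
  refine lt_of_le_of_ne (le_nS h.le) fun heq => h.ne ?_
  have h1 : T.subgroupOf S = ⊤ := by
    by_contra hne
    obtain ⟨x, hx, hxT⟩ := SetLike.exists_of_lt (hnc _ (lt_top_iff_ne_top.mpr hne))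
    have hx2 : (x : G) ∈ normalizer (T : Set G) := by
      rw [mem_normalizer_iff] at hx ⊢
      intro y
      constructor
      · intro hy
        exact (hx ⟨y, h.le hy⟩).mp hy
      · intro hy
        have h2 : y ∈ S := by
          have := S.mul_mem (S.mul_mem (S.inv_mem x.2) (h.le hy)) x.2
          simpa [mul_assoc] using this
        exact (hx ⟨y, h2⟩).mpr hy
    exact hxT (show (x : G) ∈ T from heq.symm ▸ mem_inf.mpr ⟨x.2, hx2⟩)
  exact le_antisymm h.le (subgroupOf_eq_top.mp h1)

theorem sylIn_of_le (S : Sylow p G) {B : Subgroup G} (h : (S : Subgroup G) ≤ B) :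
    SylIn p (S : Subgroup G) B :=
  (of_sylow S).mono h le_top

/-- Conjugate a subgroup of `S` to one whose normalizer in `S` is Sylow in its normalizer. -/
theorem exists_conj_sylIn (S : Sylow p G) {T : Subgroup G} (hT : T ≤ S) :
    ∃ g : G, (nS S T).map (cnj g) ≤ S ∧
      SylIn p (nS S (T.map (cnj g))) (normalizer ((T.map (cnj g) : Subgroup G) : Set G)) := by
  obtain ⟨R, hR, hRs⟩ := exists_sylIn (p := p) (B := normalizer (T : Set G))
    (inf_le_right : nS (S : Subgroup G) T ≤ _) (S.2.to_le inf_le_left)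
  obtain ⟨g, hg⟩ := exists_conj_le_sylow hRs.2.1 S
  have hle : R.map (cnj g) ≤ S := map_cnj_le_iff.mpr hg
  refine ⟨g, (map_mono hR).trans hle, ?_⟩
  have h := sylIn_map hRs g
  rw [show (normalizer (T : Set G)).map (cnj g) = _ from map_conj_normalizer g T] at h
  have he := h.eq_of_le (M := nS S (T.map (cnj g))) (le_inf hle h.1) inf_le_right
    (S.2.to_le inf_le_left)
  exact he ▸ h

/-! ### Conjugacy functors -/

variable {W : Subgroup G → Subgroup G}

omit [Finite G] [Fact p.Prime] in
theorem functor_le (hW : IsConjugacyFunctor p W) {P : Subgroup G} (hP : IsPGroup p P) : W P ≤ P :=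
  (hW P hP).1

omit [Finite G] [Fact p.Prime] in
theorem functor_map (hW : IsConjugacyFunctor p W) {P : Subgroup G} (hP : IsPGroup p P) (g : G) :
    W (P.map (cnj g)) = (W P).map (cnj g) :=
  (hW P hP).2.2 g

omit [Finite G] [Fact p.Prime] in
theorem functor_ne_bot (hW : IsConjugacyFunctor p W) {P : Subgroup G} (hP : IsPGroup p P)
    (h : P ≠ ⊥) : W P ≠ ⊥ :=
  (hW P hP).2.1 h

omit [Finite G] [Fact p.Prime] in
theorem normalizer_le_functor (hW : IsConjugacyFunctor p W) {P : Subgroup G} (hP : IsPGroup p P) :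
    normalizer (P : Set G) ≤ normalizer (W P : Set G) := fun g hg => by
  rw [← map_cnj_eq_self] at hg ⊢
  rw [← functor_map hW hP, hg]

/-! ### Well-placed subgroups -/

omit [Finite G] [Fact p.Prime] in
theorem tower_succ (S T : Subgroup G) (i : ℕ) :
    functorTower W S T (i + 1) = functorTower W S (W (nS S T)) i := by
  induction i with
  | zero => rfl
  | succ n ih =>
    change W (nS S (functorTower W S T (n + 1))) = W (nS S (functorTower W S (W (nS S T)) n))
    rw [ih]

omit [Fact p.Prime] in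
theorem wellPlaced_sylIn (S : Sylow p G) {T : Subgroup G} (h : IsWellPlaced p W (S : Subgroup G) T)
    : SylIn p (nS S T) (normalizer (T : Set G)) :=
  ⟨inf_le_right, S.2.to_le inf_le_left, h.2 0⟩

theorem wellPlaced_of_le_normalizer (S : Sylow p G) (hW : IsConjugacyFunctor p W) {T : Subgroup G}
    (hT : T ≤ S) (h : (S : Subgroup G) ≤ normalizer (T : Set G)) :
    IsWellPlaced p W (S : Subgroup G) T := by
  refine ⟨hT, fun i => ?_⟩
  suffices h1 : (S : Subgroup G) ≤ normalizer (functorTower W S T i : Set G) by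
    rw [inf_eq_left.mpr h1]
    exact (sylIn_of_le S h1).2.2
  induction i with
  | zero => exact h
  | succ n ih =>
    change _ ≤ normalizer ((W (nS S (functorTower W S T n)) : Subgroup G) : Set G)
    rw [nS_eq_self ih]
    exact le_normalizer.trans (normalizer_le_functor hW S.2)

theorem exists_conj_wellPlaced (S : Sylow p G) (hW : IsConjugacyFunctor p W) :
    ∀ {T : Subgroup G}, T ≤ S →
      ∃ g : G, (nS S T).map (cnj g) ≤ S ∧ IsWellPlaced p W (S : Subgroup G) (T.map (cnj g)) := by
  intro T
  induction hn : Nat.card (S : Subgroup G) - Nat.card (nS S T) using Nat.strong_induction_on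
    generalizing T with
  | _ n ih =>
  intro hT
  obtain ⟨g, hg, hsyl⟩ := exists_conj_sylIn S hT
  have hT' : T.map (cnj g) ≤ S := (map_mono (le_nS hT)).trans hg
  set T' := T.map (cnj g) with hT'def
  set P := nS (S : Subgroup G) T' with hP
  have hPp : IsPGroup p P := S.2.to_le inf_le_left
  rcases eq_or_lt_of_le (inf_le_left : P ≤ S) with h | h
  · exact ⟨g, hg, wellPlaced_of_le_normalizer S hW hT' (h.symm.trans_le inf_le_right)⟩
  have hU : W P ≤ S := (functor_le hW hPp).trans inf_le_left
  have hlt : P < nS S (W P) := lt_of_lt_of_le (lt_nS S.2 h)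
    (inf_le_inf le_rfl (normalizer_le_functor hW hPp))
  have hcard : Nat.card (nS (S : Subgroup G) T) ≤ Nat.card P := by
    rw [← card_map_cnj g]
    exact card_le_of_le (map_nS_le hg)
  have hlt' : Nat.card P < Nat.card (nS (S : Subgroup G) (W P)) :=
    Set.Finite.card_lt_card (Set.toFinite _) (SetLike.coe_ssubset_coe.mpr hlt)
  have hle : Nat.card (nS (S : Subgroup G) (W P)) ≤ Nat.card (S : Subgroup G) :=
    card_le_of_le inf_le_left
  obtain ⟨k, hk, hwp⟩ := ih _ (by omega) rfl hU
  have hkP : P.map (cnj k) ≤ S := (map_mono hlt.le).trans hk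
  have hP'' : nS (S : Subgroup G) (T'.map (cnj k)) = P.map (cnj k) := by
    have h1 := sylIn_map hsyl k
    rw [show (normalizer (T' : Set G)).map (cnj k) = _ from map_conj_normalizer k T'] at h1
    exact (h1.eq_of_le (le_inf hkP h1.1) inf_le_right (S.2.to_le inf_le_left)).symm
  refine ⟨k * g, ?_, ?_⟩
  · rw [← map_cnj_cnj]
    exact (map_mono (map_nS_le hg)).trans hkP
  rw [← map_cnj_cnj]
  refine ⟨(map_mono (le_nS hT')).trans hkP, fun i => ?_⟩
  cases i with
  | zero =>
    change ¬ p ∣ (nS (S : Subgroup G) (T'.map (cnj k))).relIndex _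
    rw [hP'']
    have h1 := (sylIn_map hsyl k).2.2
    rwa [show (normalizer (T' : Set G)).map (cnj k) = _ from map_conj_normalizer k T'] at h1
  | succ i =>
    rw [tower_succ, hP'', functor_map hW hPp]
    exact hwp.2 i

end Cfsg.Agent.Techniques.Functor
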