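import Cfsg.Agent.Base.RecEqns
import Cfsg.Agent.Techniques.Functor.Basic
import Cfsg.Agent.Solvable.Basics
import Mathlib.GroupTheory.Transfer
import Mathlib.GroupTheory.GroupAction.Quotient
import Mathlib.Algebra.Group.ForwardDiff
import Mathlib.FieldTheory.Finite.Basic
import Cfsg.Prelude.Def_PLocal

/-!
Sums over orbits in the transfer evaluated at an element of a normal subgroup.
-/

set_option autoImplicit false

namespace Cfsg.Agent.Techniques.Functor

open Cfsg Subgroup Finset
open scoped commutatorElement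

theorem cast_choose_pred {p : ℕ} (hp : p.Prime) {k : ℕ} (hk : k < p) :
    ((Nat.choose (p - 1) k : ℕ) : ZMod p) = (-1) ^ k := by
  induction k with
  | zero => simp
  | succ k ih =>
    have h0 : ((Nat.choose p (k + 1) : ℕ) : ZMod p) = 0 :=
      (ZMod.natCast_eq_zero_iff _ _).mpr
        (hp.dvd_choose_self (Nat.succ_ne_zero k) hk)
    have h1 := Nat.choose_succ_succ' (p - 1) k
    rw [Nat.sub_add_cancel hp.one_le] at h1
    rw [h1, Nat.cast_add, ih (by omega)] at h0
    rw [pow_succ, mul_neg_one]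
    exact eq_neg_of_add_eq_zero_right h0

/-- In exponent `p`, a vanishing `(p-1)`-st difference makes the sum over a period vanish. -/
theorem sum_range_eq_fwdDiff {p : ℕ} [Fact p.Prime] {B : Type*} [AddCommGroup B]
    (hB : ∀ b : B, p • b = 0) (f : ℕ → B) :
    ∑ i ∈ range p, f i = (fwdDiff 1)^[p - 1] f 0 := by
  have hp : p.Prime := Fact.out
  rw [fwdDiff_iter_eq_sum_shift, Nat.sub_add_cancel hp.one_le]
  refine sum_congr rfl fun k hk => ?_
  have hk' := mem_range.mp hk
  have h1 : (((-1 : ℤ) ^ (p - 1 - k) * ((p - 1).choose k : ℕ) : ℤ) : ZMod p) = 1 := by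
    push_cast
    rw [cast_choose_pred hp hk', ← pow_add, Nat.sub_add_cancel (by omega),
      ZMod.pow_card_sub_one_eq_one]
    exact neg_ne_zero.mpr one_ne_zero
  obtain ⟨c, hc⟩ : (p : ℤ) ∣ (-1 : ℤ) ^ (p - 1 - k) * ((p - 1).choose k : ℕ) - 1 := by
    rw [← ZMod.intCast_zmod_eq_zero_iff_dvd, Int.cast_sub, h1, Int.cast_one, sub_self]
  rw [show ((-1 : ℤ) ^ (p - 1 - k) * ((p - 1).choose k : ℕ)) = c * p + 1 by linarith, add_smul,
    one_smul, mul_smul, natCast_zsmul, hB, smul_zero, zero_add]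
  simp

theorem prod_orbit_eq_one {D : Type*} [Group D] [Finite D] {p : ℕ} [Fact p.Prime]
    (hD : IsPGroup p D) {X : Type*} [Fintype X] [DecidableEq X] [MulAction D X] (gens : Set D)
    (hgen : closure gens = ⊤) {A : Type*} [CommMonoid A] (F : X → A)
    (hF : ∀ u ∈ gens, ∀ q : X, ∏ i ∈ range p, F (u ^ i • q) = 1) (q0 : X)
    [Fintype (MulAction.orbit D q0)] (hq : MulAction.stabilizer D q0 ≠ ⊤) :
    ∏ q ∈ (MulAction.orbit D q0).toFinset, F q = 1 := by
  classical
  obtain ⟨R, hR, hle⟩ := (eq_top_or_exists_le_coatom (MulAction.stabilizer D q0)).resolve_left hq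
  have := hD.isNilpotent
  have hRn : R.Normal :=
    Subgroup.NormalizerCondition.normal_of_coatom R Group.normalizerCondition_of_isNilpotent hR
  have hi := Cfsg.Agent.Solvable.Basics.index_prime_of_normal_coatom hR
  have hip : R.index = p := by
    obtain ⟨k, hk⟩ := hD.index R
    exact (Nat.prime_dvd_prime_iff_eq hi (Fact.out : p.Prime)).mp (hi.dvd_of_dvd_pow hk.dvd)
  obtain ⟨u, hu, huR⟩ : ∃ u ∈ gens, u ∉ R := by
    by_contra h
    push Not at h
    exact hR.1 (top_le_iff.mp (hgen ▸ (closure_le R).mpr h))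
  have huq : (QuotientGroup.mk u : D ⧸ R) ≠ 1 := fun e => huR ((QuotientGroup.eq_one_iff u).mp e)
  have : Fact (Nat.card (D ⧸ R)).Prime := ⟨by rw [← index_eq_card, hip]; exact Fact.out⟩
  have hord : orderOf (QuotientGroup.mk u : D ⧸ R) = p := by
    rw [← hip, index_eq_card, ← Nat.card_zpowers, zpowers_eq_top_of_prime_card rfl huq,
      Nat.card_congr topEquiv.toEquiv]
  have hbij : ∏ q ∈ (MulAction.orbit D q0).toFinset, F q =
      ∏ q ∈ (MulAction.orbit R q0).toFinset, ∏ i ∈ range p, F (u ^ i • q) := by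
    rw [← Finset.prod_product_right']
    symm
    refine Finset.prod_bij (fun a _ => u ^ a.1 • a.2) (fun a ha => ?_) (fun a ha b hb he => ?_)
      (fun q hq' => ?_) (fun a _ => rfl)
    · rw [Finset.mem_product, Set.mem_toFinset] at ha
      obtain ⟨r, hr⟩ := ha.2
      rw [Set.mem_toFinset, ← hr]
      exact ⟨u ^ a.1 * r, mul_smul _ _ _⟩
    · rw [Finset.mem_product, Set.mem_toFinset, mem_range] at ha hb
      obtain ⟨r, hr⟩ := ha.2
      obtain ⟨r', hr'⟩ := hb.2
      change u ^ a.1 • a.2 = u ^ b.1 • b.2 at he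
      have h2 : ((u ^ b.1 * r')⁻¹ * (u ^ a.1 * r)) ∈ MulAction.stabilizer D q0 := by
        rw [MulAction.mem_stabilizer_iff, mul_smul, inv_smul_eq_iff, mul_smul, mul_smul]
        change u ^ a.1 • (r • q0) = u ^ b.1 • (r' • q0)
        rw [show (r • q0 : X) = a.2 from hr, show (r' • q0 : X) = b.2 from hr', he]
      have h3 := congrArg (QuotientGroup.mk' R) (show (u ^ b.1 * r')⁻¹ * (u ^ a.1 * r) =
        (u ^ b.1 * r')⁻¹ * (u ^ a.1 * r) from rfl)
      have h4 : (QuotientGroup.mk' R) ((u ^ b.1 * r')⁻¹ * (u ^ a.1 * r)) = 1 :=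
        (QuotientGroup.eq_one_iff _).mpr (hle h2)
      rw [map_mul, map_inv, map_mul, map_mul, map_pow, map_pow,
        show QuotientGroup.mk' R (r : D) = 1 from (QuotientGroup.eq_one_iff _).mpr r.2,
        show QuotientGroup.mk' R (r' : D) = 1 from (QuotientGroup.eq_one_iff _).mpr r'.2,
        mul_one, mul_one, inv_mul_eq_one, QuotientGroup.mk'_apply] at h4
      have h5 : a.1 = b.1 := by
        have := pow_inj_mod.mp h4
        rw [hord, Nat.mod_eq_of_lt hb.1, Nat.mod_eq_of_lt ha.1] at this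
        exact this.symm
      rw [h5] at he
      exact Prod.ext h5 (MulAction.injective (u ^ b.1) he)
    · rw [Set.mem_toFinset] at hq'
      obtain ⟨d, rfl⟩ := hq'
      obtain ⟨i, hi', he⟩ : ∃ i < p, (QuotientGroup.mk u : D ⧸ R) ^ i = QuotientGroup.mk d := by
        have hmem : (QuotientGroup.mk d : D ⧸ R) ∈ zpowers (QuotientGroup.mk u : D ⧸ R) :=
          mem_zpowers_of_prime_card rfl huq
        rw [← hord]
        obtain ⟨i, hi'⟩ := (isOfFinOrder_of_finite _).powers_eq_zpowers.ge hmem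
        exact ⟨i % orderOf _, Nat.mod_lt _ (orderOf_pos _), by rw [pow_mod_orderOf]; exact hi'⟩
      have hr : (u ^ i)⁻¹ * d ∈ R := by
        rw [← QuotientGroup.eq_one_iff, QuotientGroup.mk_mul, QuotientGroup.mk_inv,
          QuotientGroup.mk_pow, he, inv_mul_cancel]
      refine ⟨(i, ((u ^ i)⁻¹ * d) • q0), ?_, ?_⟩
      · rw [Finset.mem_product, Set.mem_toFinset, mem_range]
        exact ⟨hi', ⟨⟨_, hr⟩, rfl⟩⟩
      · change u ^ i • ((u ^ i)⁻¹ * d) • q0 = d • q0
        rw [smul_smul, mul_inv_cancel_left]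
  rw [hbij]
  exact Finset.prod_eq_one fun q _ => hF u hu q

/-- The product over all points is the product over the fixed points. -/
theorem prod_eq_prod_fixed {D : Type*} [Group D] [Finite D] {p : ℕ} [Fact p.Prime]
    (hD : IsPGroup p D) {X : Type*} [Fintype X] [MulAction D X] (gens : Set D)
    (hgen : closure gens = ⊤) {A : Type*} [CommMonoid A] (F : X → A)
    (hF : ∀ u ∈ gens, ∀ q : X, ∏ i ∈ range p, F (u ^ i • q) = 1) (q1 : X)
    (h1 : MulAction.stabilizer D q1 = ⊤)
    (honly : ∀ q : X, MulAction.stabilizer D q = ⊤ → q = q1) : ∏ q, F q = F q1 := by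
  classical
  set g : X → Quotient (MulAction.orbitRel D X) := fun q => Quotient.mk (MulAction.orbitRel D X) q
    with hg
  let : Fintype (Quotient (MulAction.orbitRel D X)) := Fintype.ofFinite _
  rw [← Finset.prod_fiberwise Finset.univ g F, Finset.prod_eq_single (g q1)]
  · have e : (Finset.univ.filter fun i => g i = g q1) = {q1} := by
      ext q
      simp only [Finset.mem_filter, Finset.mem_univ, true_and, Finset.mem_singleton, hg,
        Quotient.eq, MulAction.orbitRel_apply, MulAction.mem_orbit_iff]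
      refine ⟨fun ⟨d, hd⟩ => ?_, fun h => ⟨1, by rw [h, one_smul]⟩⟩
      rw [← hd]
      exact MulAction.mem_stabilizer_iff.mp (h1.ge (mem_top d))
    rw [e, Finset.prod_singleton]
  · intro j _ hj
    obtain ⟨q, rfl⟩ := Quotient.exists_rep j
    have e : (Finset.univ.filter fun i => g i = Quotient.mk (MulAction.orbitRel D X) q) =
        (MulAction.orbit D q).toFinset := by
      ext i
      simp only [Finset.mem_filter, Finset.mem_univ, true_and, Set.mem_toFinset, hg,
        Quotient.eq, MulAction.orbitRel_apply]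
    rw [e]
    exact prod_orbit_eq_one hD gens hgen F hF q fun h => hj (congrArg g (honly q h))
  · exact fun h => absurd (Finset.mem_univ _) h

section

variable {G : Type*} [Group G] {U M : Subgroup G}

theorem conj_mem_of_normal_le [hU : U.Normal] (hUM : U ≤ M) {x : G} (hx : x ∈ U) (t : G) :
    t⁻¹ * x * t ∈ M := hUM (by simpa using hU.conj_mem x hx t⁻¹)

theorem map_conj_of_mem [U.Normal] (hUM : U ≤ M) {A : Type*} [CommGroup A] (φ : M →* A) {x : G}
    (hx : x ∈ U) {s t : G} (h : t⁻¹ * s ∈ M) :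
    φ ⟨s⁻¹ * x * s, conj_mem_of_normal_le hUM hx s⟩ =
      φ ⟨t⁻¹ * x * t, conj_mem_of_normal_le hUM hx t⟩ := by
  have e : (⟨s⁻¹ * x * s, conj_mem_of_normal_le hUM hx s⟩ : M) =
      (⟨t⁻¹ * s, h⟩ : M)⁻¹ * ⟨t⁻¹ * x * t, conj_mem_of_normal_le hUM hx t⟩ * ⟨t⁻¹ * s, h⟩ := by
    refine Subtype.ext ?_
    simp [mul_assoc]
  rw [e, map_mul, map_mul, map_inv, mul_comm (φ _)⁻¹, mul_assoc, inv_mul_cancel, mul_one]

/-- The transfer at an element of a normal subgroup lying in `M`. -/
theorem transfer_eq_prod_normal [U.Normal] (hUM : U ≤ M) [M.FiniteIndex] [Fintype (G ⧸ M)]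
    {A : Type*} [CommGroup A] (φ : M →* A) {x : G} (hx : x ∈ U) :
    MonoidHom.transfer φ x =
      ∏ q : G ⧸ M, φ ⟨q.out⁻¹ * x * q.out, conj_mem_of_normal_le hUM hx q.out⟩ := by
  rw [MonoidHom.transfer_def φ (default : M.LeftTransversal), Subgroup.leftTransversals.diff]
  refine Finset.prod_congr (by ext; simp) fun q _ => ?_
  have hfix : x⁻¹ • q = q := by
    conv_rhs => rw [← q.out_eq']
    conv_lhs => rw [← q.out_eq']
    change ((x⁻¹ * q.out : G) : G ⧸ M) = (q.out : G ⧸ M)
    rw [QuotientGroup.eq, mul_inv_rev, inv_inv]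
    exact conj_mem_of_normal_le hUM hx q.out
  set a : G := ((default : M.LeftTransversal).2.leftQuotientEquiv q : G) with ha
  have haq : q.out⁻¹ * a ∈ M := by
    rw [← QuotientGroup.eq, QuotientGroup.out_eq']
    exact (IsComplement.quotientGroupMk_leftQuotientEquiv _ q).symm
  refine Eq.trans (congrArg φ (Subtype.ext ?_)) (map_conj_of_mem hUM φ hx haq)
  change a⁻¹ * _ = a⁻¹ * x * a
  rw [smul_apply_eq_smul_apply_inv_smul, hfix, smul_eq_mul, ← mul_assoc]

/-- Nilpotency of degree `p - 1` on a factor of exponent `p` kills the product over a period. -/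
theorem prod_range_map_conj_aux {p : ℕ} [Fact p.Prime] [hUn : U.Normal] {V : Subgroup G}
    {A : Type*} [CommGroup A] (h : U →* A)
    (hp : ∀ a : A, a ^ p = 1) (hV : ∀ y : U, (y : G) ∈ V → h y = 1) {u : G}
    (hnil : iterCommutator U (zpowers u) (p - 1) ≤ V) {x : G} (hx : x ∈ U) :
    ∏ i ∈ range p, h ⟨u ^ i * x * (u ^ i)⁻¹, hUn.conj_mem x hx (u ^ i)⟩ = 1 := by
  let d : ℕ → G := fun j => Nat.rec x (fun _ y => y * u * y⁻¹ * u⁻¹) j
  have hd : ∀ j, d j ∈ iterCommutator U (zpowers u) j ∧ d j ∈ U := by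
    intro j
    induction j with
    | zero => exact ⟨hx, hx⟩
    | succ j ih =>
      refine ⟨?_, ?_⟩
      · have := commutator_mem_commutator ih.1 (mem_zpowers u)
        rwa [commutatorElement_def] at this
      · change d j * u * (d j)⁻¹ * u⁻¹ ∈ U
        have h1 := U.mul_mem ih.2 (hUn.conj_mem _ (U.inv_mem ih.2) u)
        rwa [← mul_assoc, ← mul_assoc] at h1
  have hm : ∀ j i, u ^ i * d j * (u ^ i)⁻¹ ∈ U := fun j i => hUn.conj_mem _ (hd j).2 _
  let f : ℕ → ℕ → Additive A := fun j i => Additive.ofMul (h ⟨_, hm j i⟩)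
  have hstep : ∀ j i, f (j + 1) i = f j i - f j (i + 1) := by
    intro j i
    change Additive.ofMul (h ⟨_, hm (j + 1) i⟩) = _
    rw [sub_eq_add_neg]
    change _ = Additive.ofMul (h ⟨_, hm j i⟩ * (h ⟨_, hm j (i + 1)⟩)⁻¹)
    rw [← map_inv, ← map_mul]
    congr 2
    refine Subtype.ext ?_
    change u ^ i * (d j * u * (d j)⁻¹ * u⁻¹) * (u ^ i)⁻¹ =
      u ^ i * d j * (u ^ i)⁻¹ * (u ^ (i + 1) * d j * (u ^ (i + 1))⁻¹)⁻¹
    rw [pow_succ]
    group
  have hiter : ∀ j, (fwdDiff 1)^[j] (f 0) = fun i => ((-1 : ℤ) ^ j) • f j i := by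
    intro j
    induction j with
    | zero => simp
    | succ j ih =>
      rw [Function.iterate_succ_apply', ih]
      funext i
      simp only [fwdDiff, hstep, smul_sub, pow_succ, mul_neg_one, neg_smul]
      abel
  have h0 := sum_range_eq_fwdDiff (p := p) (B := Additive A) (fun b => ?_) (f 0)
  · rw [hiter] at h0
    have hz : f (p - 1) 0 = 0 := by
      refine congrArg Additive.ofMul (hV _ ?_)
      simpa using hnil (hd (p - 1)).1
    simp only [hz, smul_zero] at h0
    exact h0
  · obtain ⟨a, rfl⟩ := Additive.ofMul.surjective b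
    rw [← ofMul_pow, hp]
    rfl

theorem prod_range_map_conj {p : ℕ} [Fact p.Prime] [hUn : U.Normal] {V : Subgroup G}
    {A : Type*} [CommGroup A] (h : U →* A)
    (hp : ∀ y : U, h y ^ p = 1) (hV : ∀ y : U, (y : G) ∈ V → h y = 1) {u : G}
    (hnil : iterCommutator U (zpowers u) (p - 1) ≤ V) {x : G} (hx : x ∈ U) :
    ∏ i ∈ range p, h ⟨u ^ i * x * (u ^ i)⁻¹, hUn.conj_mem x hx (u ^ i)⟩ = 1 := by
  have h1 := prod_range_map_conj_aux (V := V) h.rangeRestrict
    (by rintro ⟨_, y, rfl⟩; exact Subtype.ext (hp y))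
    (fun y hy => Subtype.ext (hV y hy)) hnil hx
  have h2 := congrArg h.range.subtype h1
  rw [map_prod, map_one] at h2
  exact h2

end

end Cfsg.Agent.Techniques.Functor
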