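import Cfsg.Agent.Base.RecEqns
import Cfsg.Agent.Techniques.Functor.Thompson
import Cfsg.Agent.Techniques.Functor.Chief
import Cfsg.Agent.Techniques.Functor.TransferCore
import Cfsg.Agent.Lib.Coprime.Sylow

/-!
No element of low nilpotency degree on a chief factor in the critical configuration.
-/

set_option autoImplicit false

namespace Cfsg.Agent.Techniques.Functor

universe u

open Cfsg Subgroup Cfsg.Agent.Fusion.SylIn Cfsg.Agent.PLocal.Cores
open Cfsg.Agent.Transfer.NormalPComplement
open scoped commutatorElement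

variable {p : ℕ} [Fact p.Prime] {G : Type u} [Group G] [Finite G]
variable {W : ∀ (Q : Type u) [Group Q], Subgroup Q} {S : Sylow p G}

/-- The complement of the quotient by the core is abelian in the critical configuration. -/
theorem Critical.exists_complement (h : Critical p W S) :
    ∃ N : Subgroup (G ⧸ pCore p G), N.Normal ∧ (Nat.card N).Coprime p ∧
      N ⊔ (S : Subgroup G).map (QuotientGroup.mk' (pCore p G)) = ⊤ ∧
      (∀ a ∈ N, ∀ b ∈ N, a * b = b * a) ∧
      ∀ M : Subgroup (G ⧸ pCore p G), M ≤ N →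
        (S : Subgroup G).map (QuotientGroup.mk' (pCore p G)) ≤ normalizer (M : Set (G ⧸ pCore p G)) →
          M = ⊥ ∨ M = N := by
  classical
  set Q := pCore p G with hQ
  set f := QuotientGroup.mk' Q with hf
  have hfs : Function.Surjective f := QuotientGroup.mk'_surjective Q
  set P := (S : Subgroup G).map f with hP
  let Sb : Sylow p (G ⧸ Q) := S.mapSurjective hfs
  obtain ⟨N, hNn, hNc⟩ := (hasNormalPComplement_iff_sylow Sb).mp h.quotient
  have hcard : (Nat.card N).Coprime p := by
    rw [← hNc.index_eq_card]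
    exact (((Fact.out : p.Prime).coprime_iff_not_dvd).mpr Sb.not_dvd_index).symm
  have htop : N ⊔ P = ⊤ := hNc.sup_eq_top
  have hmin : ∀ M : Subgroup (G ⧸ Q), M ≤ N → P ≤ normalizer (M : Set (G ⧸ Q)) →
      M = ⊥ ∨ M = N := by
    intro M hMN hPM
    have hle : (S : Subgroup G) ≤ (M ⊔ P).comap f :=
      map_le_iff_le_comap.mp le_sup_right
    rcases eq_or_lt_of_le hle with e | e
    · left
      rw [eq_bot_iff]
      intro m hm
      obtain ⟨g, rfl⟩ := hfs m
      have hg : g ∈ (S : Subgroup G) := e.ge (mem_sup_left hm)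
      exact (hNc.disjoint.le_bot) (mem_inf.mpr ⟨hMN hm, mem_map_of_mem f hg⟩)
    · right
      refine le_antisymm hMN fun n hn => ?_
      have htop' : M ⊔ P = ⊤ := comap_injective hfs ((h.coatom.2 _ e).trans (comap_top f).symm)
      have h1 : n ∈ ((M ⊔ P : Subgroup (G ⧸ Q)) : Set (G ⧸ Q)) := htop'.ge (mem_top n)
      rw [coe_mul_of_right_le_normalizer_left M P hPM] at h1
      obtain ⟨m, hm, s, hs, rfl⟩ := h1
      have hsN : s ∈ N := by
        have := N.mul_mem (N.inv_mem (hMN hm)) hn
        simpa using this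
      have : s = 1 := (hNc.disjoint.le_bot) (mem_inf.mpr ⟨hsN, hs⟩)
      simpa [this] using hm
  refine ⟨N, hNn, hcard, htop, ?_, hmin⟩
  -- `N` is a `q`-group, hence abelian
  rcases eq_or_ne N ⊥ with rfl | hN
  · intro a ha b hb
    rw [mem_bot.mp ha, mem_bot.mp hb]
  obtain ⟨q, hq, hqd⟩ := Nat.exists_prime_and_dvd (N.one_lt_card_iff_ne_bot.mpr hN).ne'
  have := Fact.mk hq
  have hPp : IsPGroup p P := S.2.map f
  have hPs : Group.IsSolvable P := by
    have := hPp.isNilpotent
    infer_instance
  obtain ⟨R, hR⟩ := Cfsg.Agent.Coprime.exists_invariant_sylow q (A := P) (K := N)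
    (le_top.trans (normalizer_eq_top_iff.mpr hNn).ge)
    (coprime_card_of_isPGroup hPp hcard) (Or.inl hPs)
  rcases hmin _ (map_subtype_le _) hR with e | e
  · exfalso
    rw [map_eq_bot_iff_of_injective _ N.subtype_injective] at e
    exact R.ne_bot_of_dvd_card hqd e
  · have hNq : IsPGroup q N := e ▸ R.2.map N.subtype
    rcases hmin ⁅N, N⁆ (commutator_le_self N) (le_top.trans
      (normalizer_eq_top_iff.mpr (inferInstance : (⁅N, N⁆).Normal)).ge) with e' | e'
    · intro a ha b hb
      exact (mem_centralizer_iff.mp ((commutator_eq_bot_iff_le_centralizer.mp e') ha) b hb).symm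
    · exfalso
      have := hNq.isNilpotent
      have : Nontrivial N := (Subgroup.nontrivial_iff_ne_bot N).mpr hN
      refine (IsSolvable.commutator_lt_top_of_nontrivial ↥N).ne ?_
      refine map_injective N.subtype_injective ?_
      rw [Subgroup.map_subtype_commutator, e', ← MonoidHom.range_eq_map, Subgroup.range_subtype]

theorem Critical.no_chief (h : Critical p W S) {g : G} (hgS : g ∈ (S : Subgroup G))
    (hgQ : g ∉ pCore p G) {U V : Subgroup G} (hch : IsChiefFactor U V) (hU : U ≤ pCore p G)
    (hnil : iterCommutator U (zpowers g) (p - 1) ≤ V) : ⁅U, zpowers g⁆ ≤ V := by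
  classical
  by_contra hne
  set Q := pCore p G with hQ
  set f := QuotientGroup.mk' Q with hf
  have hfs : Function.Surjective f := QuotientGroup.mk'_surjective Q
  obtain ⟨N, hNn, hNcop, htop, hNab, hmin⟩ := h.exists_complement
  have hUn : U.Normal := hch.2.1
  have hVn : V.Normal := hch.2.2.1
  set π := QuotientGroup.mk' V with hπ
  set X := U.map π with hX
  have hXn : X.Normal := hUn.map π (QuotientGroup.mk'_surjective V)
  have hUQ := chief_commutator_le hch hU
  have hcomm : IsMulCommutative ↥X := by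
    rw [← le_centralizer_iff_isMulCommutative, ← commutator_eq_bot_iff_le_centralizer, hX,
      ← map_commutator, Subgroup.map_eq_bot_iff, QuotientGroup.ker_mk']
    exact (commutator_mono le_rfl hU).trans hUQ
  let : CommGroup ↥X := { (inferInstance : Group ↥X) with mul_comm := hcomm.is_comm.comm }
  let ψ : G →* MulAut ↥X := (MulAut.conjNormal (H := X)).comp π
  have hψ : ∀ (g : G) (x : ↥X), ((ψ g x : ↥X) : G ⧸ V) = π g * x * (π g)⁻¹ := fun g x => rfl
  have hker : ∀ q ∈ Q, ψ q = 1 := by
    intro q hq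
    refine MulEquiv.ext fun x => Subtype.ext ?_
    obtain ⟨y, hy, hyx⟩ := x.2
    rw [hψ, ← hyx, ← map_inv, ← map_mul, ← map_mul, MulAut.one_apply, ← hyx]
    rw [← mul_inv_eq_one, ← map_inv, ← map_mul, QuotientGroup.mk'_apply, QuotientGroup.eq_one_iff]
    have := hUQ (commutator_mem_commutator hy hq)
    have h1 := V.inv_mem this
    simpa [commutatorElement_def, mul_assoc] using h1
  let ρ : G ⧸ Q →* MulAut ↥X := QuotientGroup.lift Q ψ fun q hq => MonoidHom.mem_ker.mpr (hker q hq)
  have hρ : ∀ g, ρ (f g) = ψ g := fun g => rfl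
  have hXp : ∀ x : ↥X, x ^ p = 1 := by
    intro x
    obtain ⟨y, hy, hyx⟩ := x.2
    refine Subtype.ext ?_
    rw [Subgroup.coe_pow, ← hyx, ← map_pow, QuotientGroup.mk'_apply, OneMemClass.coe_one,
      QuotientGroup.eq_one_iff]
    exact chief_pow_mem hch (isPGroup_pCore.to_le hU) hy
  -- period sums vanish
  let hU' : U →* ↥X := (π.subgroupMap U)
  have hsum : ∀ x : ↥X, ∏ i ∈ Finset.range p, ρ (f g ^ i) x = 1 := by
    intro x
    obtain ⟨y, hy, hyx⟩ := x.2
    rw [← prod_range_map_conj (p := p) (V := V) hU' (fun _ => hXp _)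
      (fun z hz => Subtype.ext ((QuotientGroup.eq_one_iff (z : G)).mpr hz)) hnil hy]
    refine Finset.prod_congr rfl fun i _ => Subtype.ext ?_
    rw [← map_pow, hρ, hψ, ← hyx, ← map_inv, ← map_mul, ← map_mul]
    rfl
  obtain ⟨j, hj⟩ : ∃ j, orderOf (f g) = p ^ j := by
    obtain ⟨i, hi⟩ := IsPGroup.iff_orderOf.mp S.2 ⟨g, hgS⟩
    rw [Subgroup.orderOf_mk] at hi
    obtain ⟨l, -, hl⟩ := (Nat.dvd_prime_pow (Fact.out : p.Prime)).mp (hi ▸ orderOf_map_dvd f g)
    exact ⟨l, hl⟩
  have htriv := action_trivial_of_sum ρ hNab hNcop hXp (g := f g)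
    (fun r hr => hNn.conj_mem r hr (f g)) (isOfFinOrder_of_finite _) ⟨j, hj⟩ hsum
  -- the kernel meets `N` trivially
  set P := (S : Subgroup G).map f with hP
  have hfix : ρ.ker ⊓ N = ⊥ := by
    rcases hmin (ρ.ker ⊓ N) inf_le_right (le_top.trans
      (normalizer_eq_top_iff.mpr (inferInstance : (ρ.ker ⊓ N).Normal)).ge) with e | e
    · exact e
    · exfalso
      -- everything acts as a p-group, so has a fixed point
      have hNk : N ≤ ρ.ker := e.ge.trans inf_le_left
      have himg : ∀ z : G ⧸ Q, ∃ s ∈ (S : Subgroup G), ρ z = ψ s := by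
        intro z
        obtain ⟨n, hn, b, ⟨s, hs, rfl⟩, rfl⟩ :=
          mem_sup_of_normal_left.mp (htop.ge (mem_top z) : z ∈ N ⊔ P)
        exact ⟨s, hs, by rw [map_mul, MonoidHom.mem_ker.mp (hNk hn), one_mul, hρ]⟩
      let : MulDistribMulAction ↥(S : Subgroup G) ↥X :=
        MulDistribMulAction.compHom ↥X (ψ.comp (S : Subgroup G).subtype)
      set F : Subgroup ↥X :=
        { carrier := {x | ∀ s ∈ (S : Subgroup G), ψ s x = x}
          one_mem' := fun s _ => map_one _
          mul_mem' := fun ha hb s hs => by rw [map_mul, ha s hs, hb s hs]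
          inv_mem' := fun ha s hs => by rw [map_inv, ha s hs] } with hF
      have hF0 : F ≠ ⊥ := by
        have hXpp : IsPGroup p ↥X := (isPGroup_pCore.to_le hU).map π
        have hnt : X ≠ ⊥ := fun e' => hch.1.not_ge (by
          have := (Subgroup.map_eq_bot_iff U).mp e'
          rwa [QuotientGroup.ker_mk'] at this)
        have hdvd : p ∣ Nat.card ↥X := by
          obtain ⟨i, hi⟩ := hXpp.exists_card_eq
          rcases i with _ | i
          · exact absurd (Subgroup.card_eq_one.mp (by simpa using hi)) hnt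
          · rw [hi]; exact dvd_pow_self p (Nat.succ_ne_zero i)
        have h1 : (1 : ↥X) ∈ MulAction.fixedPoints ↥(S : Subgroup G) ↥X := fun s => smul_one s
        obtain ⟨x, hx, hx1⟩ := S.2.exists_fixed_point_of_prime_dvd_card_of_fixed_point ↥X hdvd h1
        intro e'
        have : x ∈ F := fun s hs => hx ⟨s, hs⟩
        rw [e', mem_bot] at this
        exact hx1 this.symm
      -- the preimage of the fixed points is normal
      set F' := (F.map X.subtype).comap π with hF'
      have hfixall : ∀ x ∈ F, ∀ a : G, ψ a x = x := by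
        intro x hx a
        obtain ⟨s, hs, hz⟩ := himg (f a)
        rw [hρ] at hz
        rw [hz]
        exact hx s hs
      have hF'n : F'.Normal := by
        refine ⟨fun y hy a => ?_⟩
        obtain ⟨x, hx, hxy⟩ := hy
        refine ⟨x, hx, ?_⟩
        have h2 := congrArg Subtype.val (hfixall x hx a)
        rw [hψ] at h2
        change (x : G ⧸ V) = π (a * y * a⁻¹)
        rw [map_mul, map_mul, map_inv, ← show (x : G ⧸ V) = π y from hxy, h2]
      have hVF : V ≤ F' := fun v hv => ⟨1, F.one_mem, ((QuotientGroup.eq_one_iff v).mpr hv).symm⟩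
      have hF'U : F' ≤ U := by
        intro y hy
        obtain ⟨x, -, hxy⟩ := hy
        have hy' : y ∈ (U.map π).comap π := by
          rw [mem_comap, ← hxy]
          exact x.2
        rwa [comap_map_eq_self (by rw [QuotientGroup.ker_mk']; exact hch.1.le)] at hy'
      rcases hch.2.2.2 F' hF'n hVF hF'U with e' | e'
      · refine hF0 (eq_bot_iff.mpr fun x hx => ?_)
        obtain ⟨y, hy, hyx⟩ := x.2
        have : y ∈ V := e'.le ⟨x, hx, hyx.symm⟩
        rw [mem_bot]
        exact Subtype.ext (hyx.symm.trans ((QuotientGroup.eq_one_iff y).mpr this))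
      · refine hne (Subgroup.commutator_le.mpr fun y hy z hz => ?_)
        obtain ⟨i, rfl⟩ := hz
        obtain ⟨x, hx, hxy⟩ := e'.ge hy
        have h2 := congrArg Subtype.val (hfixall x hx (g ^ i))
        rw [hψ, show ((x : ↥X) : G ⧸ V) = π y from hxy] at h2
        change ⁅y, g ^ i⁆ ∈ V
        rw [← QuotientGroup.eq_one_iff]
        change π ⁅y, g ^ i⁆ = 1
        rw [map_commutatorElement, commutatorElement_eq_one_iff_mul_comm]
        exact (mul_inv_eq_iff_eq_mul.mp h2).symm
  -- hence `g` centralizes `N`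
  have hgN : f g ∈ centralizer (N : Set (G ⧸ Q)) := by
    rw [mem_centralizer_iff]
    intro r hr
    have h1 : r⁻¹ * (f g * r * (f g)⁻¹) ∈ ρ.ker ⊓ N :=
      mem_inf.mpr ⟨htriv r hr, N.mul_mem (N.inv_mem hr) (hNn.conj_mem r hr (f g))⟩
    rw [hfix, mem_bot, inv_mul_eq_one] at h1
    exact mul_inv_eq_iff_eq_mul.mp h1.symm |>.symm
  set D := P ⊓ centralizer (N : Set (G ⧸ Q)) with hD
  have hDn : D.Normal := by
    rw [← normalizer_eq_top_iff, ← top_le_iff, ← htop]
    refine sup_le (fun n hn => ?_) (fun s hs => ?_)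
    · refine centralizer_le_normalizer _ (mem_centralizer_iff.mpr fun d hd => ?_)
      exact (mem_centralizer_iff.mp (mem_inf.mp hd).2 n hn).symm
    · rw [← map_cnj_eq_self, hD, Subgroup.map_inf _ _ _ (MulAut.conj s).injective,
        map_cnj_eq_self.mpr (le_normalizer hs),
        map_cnj_eq_self.mpr (normalizer_eq_top_iff.mpr
          (inferInstance : (centralizer (N : Set (G ⧸ Q))).Normal) ▸ mem_top s)]
  have hgD : f g ∈ D := mem_inf.mpr ⟨mem_map_of_mem f hgS, hgN⟩
  have h3 := ((le_pCore ((S.2.map f).to_le inf_le_left)).trans pCore_quotient_pCore.le) hgD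
  exact hgQ ((QuotientGroup.eq_one_iff g).mp (mem_bot.mp h3))

end Cfsg.Agent.Techniques.Functor
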