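import Cfsg.Prelude.Def_LocalEven
import Cfsg.Agent.Techniques.Functor.Basic

/-!
Clifford: a subnormal subgroup acts semisimply on an abelian chief factor.
-/

set_option autoImplicit false

namespace Cfsg.Agent.Techniques.Functor

open Cfsg Subgroup

variable {G : Type*} [Group G] {X Y H K U V : Subgroup G}

/-- `U` lies between `Y` and `X` and is normalized by `H`. -/
structure Between (X Y H U : Subgroup G) : Prop where
  le_left : Y ≤ U
  le_right : U ≤ X
  norm : H ≤ normalizer (U : Set G)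

/-- Every `H`-invariant subgroup between `Y` and `X` has an `H`-invariant complement. -/
def Complemented (X Y H : Subgroup G) : Prop :=
  ∀ V, Between X Y H V → ∃ U, Between X Y H U ∧ U ⊓ V = Y ∧ U ⊔ V = X

theorem mem_normalizer_sup {g : G} (hU : g ∈ normalizer (U : Set G))
    (hV : g ∈ normalizer (V : Set G)) : g ∈ normalizer ((U ⊔ V : Subgroup G) : Set G) := by
  rw [← map_cnj_eq_self] at hU hV ⊢
  rw [Subgroup.map_sup, hU, hV]

theorem mem_normalizer_inf {g : G} (hU : g ∈ normalizer (U : Set G))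
    (hV : g ∈ normalizer (V : Set G)) : g ∈ normalizer ((U ⊓ V : Subgroup G) : Set G) := by
  rw [← map_cnj_eq_self] at hU hV ⊢
  rw [Subgroup.map_inf _ _ _ (MulAut.conj g).injective, hU, hV]

theorem map_cnj_normal (N : Subgroup G) [N.Normal] (g : G) : N.map (cnj g) = N :=
  map_cnj_eq_self.mpr (by rw [normalizer_eq_top]; exact mem_top g)

theorem complemented_top (h : IsChiefFactor X Y) : Complemented X Y ⊤ := by
  intro V hV
  have : V.Normal := normalizer_eq_top_iff.mp (top_le_iff.mp hV.norm)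
  have := h.2.1
  have := h.2.2.1
  rcases h.2.2.2 V inferInstance hV.le_left hV.le_right with e | e
  · exact ⟨X, ⟨h.1.le, le_rfl, by rw [normalizer_eq_top]⟩, by rw [e]; exact inf_eq_right.mpr h.1.le,
      by rw [e]; exact sup_eq_left.mpr h.1.le⟩
  · exact ⟨Y, ⟨le_rfl, h.1.le, by rw [normalizer_eq_top]⟩, by rw [e]; exact inf_eq_left.mpr h.1.le,
      by rw [e]; exact sup_eq_right.mpr h.1.le⟩

/-- Minimal invariant subgroups above `Y`. -/
def atomsOf (X Y H : Subgroup G) : Set (Subgroup G) :=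
  {a | Between X Y H a ∧ Y < a ∧ ∀ b, Between X Y H b → b ≤ a → b = Y ∨ b = a}

theorem exists_atomOf [Finite G] (hU : Between X Y H U) (h : Y < U) :
    ∃ a ∈ atomsOf X Y H, a ≤ U := by
  obtain ⟨a, ha⟩ := (Set.toFinite {b | Between X Y H b ∧ Y < b ∧ b ≤ U}).exists_minimal
    ⟨U, hU, h, le_rfl⟩
  refine ⟨a, ⟨ha.1.1, ha.1.2.1, fun b hb hba => ?_⟩, ha.1.2.2⟩
  rcases hb.le_left.eq_or_lt with e | e
  · exact Or.inl e.symm
  · exact Or.inr (le_antisymm hba (ha.2 ⟨hb, e, hba.trans ha.1.2.2⟩ hba))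

/-- Semisimplicity passes to normal subgroups. -/
theorem complemented_of_normal [Finite G] [X.Normal] [Y.Normal] (hYX : Y ≤ X)
    (hab : ⁅X, X⁆ ≤ Y) (hHK : H ≤ K) (hKH : K ≤ normalizer (H : Set G))
    (hK : Complemented X Y K) : Complemented X Y H := by
  classical
  let A := atomsOf X Y H
  set S : Subgroup G := sSup A ⊔ Y with hSdef
  have hSX : S ≤ X := sup_le (sSup_le fun a ha => ha.1.le_right) hYX
  have hA : ∀ k ∈ K, ∀ a ∈ A, a.map (cnj k) ∈ A := by
    intro k hk a ha
    have hk' : ∀ m ∈ K, ∀ b, Between X Y H b → Between X Y H (b.map (cnj m)) := by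
      intro m hm b hb
      refine ⟨?_, ?_, fun x hx => ?_⟩
      · rw [← map_cnj_normal Y m] at hYX ⊢
        exact map_mono hb.le_left
      · rw [← map_cnj_normal X m]
        exact map_mono hb.le_right
      · rw [← map_conj_normalizer]
        refine mem_map_cnj.mpr (hb.norm ?_)
        have := (mem_normalizer_iff.mp (inv_mem (hKH hm)) x).mp hx
        simpa using this
    obtain ⟨hb, hlt, hmin⟩ := ha
    refine ⟨hk' k hk a hb, ?_, fun b hb' hba => ?_⟩
    · rw [← map_cnj_normal Y k]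
      exact (Subgroup.map_lt_map_iff_of_injective (MulAut.conj k).injective).mpr hlt
    · have e : (b.map (cnj k⁻¹)).map (cnj k) = b := by
        rw [map_cnj_cnj, mul_inv_cancel, map_cnj_one]
      rcases hmin _ (hk' k⁻¹ (inv_mem hk) b hb') (by
        refine (map_mono hba).trans ?_
        rw [map_cnj_cnj, inv_mul_cancel, map_cnj_one]) with h | h
      · refine Or.inl ?_
        rw [← e, h]
        exact map_cnj_normal Y k
      · exact Or.inr (by rw [← e, h])
  have hSK : Between X Y K S := by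
    refine ⟨le_sup_right, hSX, fun k hk => mem_normalizer_sup ?_ ?_⟩
    · rw [← map_cnj_eq_self]
      have hle : ∀ m ∈ K, (sSup A).map (cnj m) ≤ sSup A := fun m hm => by
        rw [(gc_map_comap _).l_sSup]
        exact iSup₂_le fun a ha => le_sSup (hA m hm a ha)
      refine le_antisymm (hle k hk) ?_
      have h2 := map_mono (f := cnj k) (hle k⁻¹ (inv_mem hk))
      rwa [map_cnj_cnj, mul_inv_cancel, map_cnj_one] at h2
    · rw [normalizer_eq_top]; exact mem_top k
  have hS : S = X := by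
    obtain ⟨U, hU, hUS, hUS'⟩ := hK S hSK
    rcases hU.le_left.eq_or_lt with e | e
    · rw [← hUS', ← e]
      exact (sup_eq_right.mpr le_sup_right).symm
    · exfalso
      obtain ⟨a, ha, haU⟩ := exists_atomOf ⟨hU.le_left, hU.le_right, hHK.trans hU.norm⟩ e
      exact ha.2.1.not_ge ((le_inf haU ((le_sSup ha).trans le_sup_left)).trans hUS.le)
  intro V hV
  obtain ⟨U, hU⟩ := (Set.toFinite {U | Between X Y H U ∧ U ⊓ V = Y}).exists_maximal
    ⟨Y, ⟨le_rfl, hYX, by rw [normalizer_eq_top]; exact le_top⟩, inf_eq_left.mpr hV.le_left⟩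
  obtain ⟨⟨hUb, hUV⟩, hmax⟩ := hU
  refine ⟨U, hUb, hUV, ?_⟩
  by_contra hne
  have hlt : ¬ S ≤ U ⊔ V := fun hle =>
    hne (le_antisymm (sup_le hUb.le_right hV.le_right) (hS ▸ hle))
  obtain ⟨a, ha, hna⟩ : ∃ a ∈ A, ¬ a ≤ U ⊔ V := by
    by_contra hall
    push Not at hall
    exact hlt (sup_le (sSup_le hall) (hUb.le_left.trans le_sup_left))
  have hinf : a ⊓ (U ⊔ V) = Y := by
    rcases ha.2.2 (a ⊓ (U ⊔ V)) ⟨le_inf ha.1.le_left (hUb.le_left.trans le_sup_left),
      inf_le_left.trans ha.1.le_right, fun x hx =>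
        mem_normalizer_inf (ha.1.norm hx) (mem_normalizer_sup (hUb.norm hx) (hV.norm hx))⟩
      inf_le_left with e | e
    · exact e
    · exact absurd (inf_eq_left.mp e) hna
  have haU : a ≤ normalizer (U : Set G) :=
    ha.1.le_right.trans (le_normalizer_iff_commutator_le_left.mpr
      (((commutator_mono hUb.le_right le_rfl).trans hab).trans hUb.le_left))
  have hnew : Between X Y H (U ⊔ a) ∧ (U ⊔ a) ⊓ V = Y := by
    refine ⟨⟨hUb.le_left.trans le_sup_left, sup_le hUb.le_right ha.1.le_right,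
      fun x hx => mem_normalizer_sup (hUb.norm hx) (ha.1.norm hx)⟩,
      le_antisymm ?_ (le_inf (hUb.le_left.trans le_sup_left) hV.le_left)⟩
    intro w hw
    obtain ⟨hw1, hw2⟩ := mem_inf.mp hw
    rw [← SetLike.mem_coe, coe_mul_of_right_le_normalizer_left U a haU] at hw1
    obtain ⟨u, hu, x, hx, rfl⟩ := hw1
    have h1 : x ∈ U ⊔ V := by
      have := mul_mem (mem_sup_left (T := V) (inv_mem hu)) (mem_sup_right (S := U) hw2)
      simpa using this
    have h2 : x ∈ Y := hinf ▸ mem_inf.mpr ⟨hx, h1⟩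
    exact hUV ▸ mem_inf.mpr ⟨mul_mem hu (hUb.le_left h2), hw2⟩
  exact hna ((le_sup_right.trans (hmax hnew le_sup_left)).trans le_sup_left)

end Cfsg.Agent.Techniques.Functor
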