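import Cfsg.Agent.Techniques.Functor.Basic

/-!
Conjugation families.
-/

set_option autoImplicit false

namespace Cfsg.Agent.Techniques.Functor

open Cfsg Subgroup Cfsg.Agent.Fusion.SylIn

variable {G : Type*} [Group G]

/-- Conjugate on the right. -/
def rimg (g : G) (A : Set G) : Set G := (fun a => g⁻¹ * a * g) '' A

theorem rimg_one (A : Set G) : rimg (1 : G) A = A := by simp [rimg]

theorem rimg_rimg (g h : G) (A : Set G) : rimg h (rimg g A) = rimg (g * h) A := by
  simp [rimg, Set.image_image, mul_assoc]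

theorem rimg_mono {g : G} {A B : Set G} (h : A ⊆ B) : rimg g A ⊆ rimg g B := Set.image_mono h

theorem rimg_subgroup (g : G) (H : Subgroup G) :
    rimg g (H : Set G) = (H.map (cnj g⁻¹) : Subgroup G) := by
  ext x
  simp [rimg, Subgroup.mem_map, cnj]

/-- `g` conjugates `A` through steps in normalizers of members of `F`. -/
inductive Chain (F : Set (Subgroup G)) : Set G → G → Prop
  | nil (A : Set G) : Chain F A 1
  | cons {A : Set G} {g : G} (U : Subgroup G) (x : G) : U ∈ F → A ⊆ U →
      x ∈ normalizer (U : Set G) → Chain F (rimg x A) g → Chain F A (x * g)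

theorem Chain.single {F : Set (Subgroup G)} {A : Set G} (U : Subgroup G) (x : G) (hU : U ∈ F)
    (hA : A ⊆ U) (hx : x ∈ normalizer (U : Set G)) : Chain F A x := by
  simpa using Chain.cons U x hU hA hx (Chain.nil _)

theorem Chain.mono {F : Set (Subgroup G)} {A : Set G} {g : G} (h : Chain F A g) :
    ∀ {B : Set G}, B ⊆ A → Chain F B g := by
  induction h with
  | nil A => exact fun _ => Chain.nil _
  | cons U x hU hA hx _ ih =>
    exact fun hB => Chain.cons U x hU (hB.trans hA) hx (ih (rimg_mono hB))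

theorem Chain.trans {F : Set (Subgroup G)} {A : Set G} {g : G} (h : Chain F A g) :
    ∀ {k : G}, Chain F (rimg g A) k → Chain F A (g * k) := by
  induction h with
  | nil A => intro k hk; simpa [rimg_one] using hk
  | cons U x hU hA hx _ ih =>
    intro k hk
    rw [mul_assoc]
    exact Chain.cons U x hU hA hx (ih (by rwa [rimg_rimg]))

theorem Chain.symm {F : Set (Subgroup G)} {A : Set G} {g : G} (h : Chain F A g) :
    Chain F (rimg g A) g⁻¹ := by
  induction h with
  | nil A => simpa [rimg_one] using Chain.nil A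
  | @cons A g U x hU hA hx _ ih =>
    rw [mul_inv_rev, ← rimg_rimg]
    refine ih.trans ?_
    rw [rimg_rimg, mul_inv_cancel, rimg_one]
    refine Chain.single U _ hU ?_ (inv_mem hx)
    rintro _ ⟨a, ha, rfl⟩
    exact (Subgroup.mem_normalizer_iff''.mp hx a).mp (hA ha)

theorem Chain.exists_fin {F : Set (Subgroup G)} {A : Set G} {g : G} (h : Chain F A g) :
    ∃ (n : ℕ) (T : Fin n → Subgroup G) (x : Fin n → G), (List.ofFn x).prod = g ∧
      (∀ i, T i ∈ F) ∧ (∀ i, x i ∈ normalizer ((T i : Subgroup G) : Set G)) ∧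
      (∀ h : 0 < n, A ⊆ T ⟨0, h⟩) ∧
      ∀ (i : Fin n) (h : i.val + 1 < n),
        (fun a => (((List.ofFn x).take (i.val + 1)).prod)⁻¹ * a *
          ((List.ofFn x).take (i.val + 1)).prod) '' A ⊆ T ⟨i.val + 1, h⟩ := by
  induction h with
  | nil A => exact ⟨0, Fin.elim0, Fin.elim0, by simp, (·.elim0), (·.elim0), by simp, (·.elim0)⟩
  | @cons A g U x hU hA hx _ ih =>
    obtain ⟨n, T, xs, h1, h2, h3, h4, h5⟩ := ih
    refine ⟨n + 1, Fin.cons U T, Fin.cons x xs, by simp [List.ofFn_succ, h1],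
      Fin.cases hU h2, Fin.cases hx h3, fun _ => hA, ?_⟩
    intro i hi
    induction i using Fin.cases with
    | zero =>
      have h0 := h4 (show 0 < n by simp at hi; omega)
      refine Eq.trans_subset ?_ h0
      simp [List.ofFn_succ, rimg]
    | succ j =>
      have h0 := h5 j (by simp at hi; omega)
      refine Eq.trans_subset ?_ h0
      simp [List.ofFn_succ, List.take_succ_cons, rimg, Set.image_image, mul_assoc]

theorem isConjugationFamily_of_chain {F : Set (Subgroup G)} {S : Subgroup G} (hF : ∀ U ∈ F, U ≤ S)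
    (h : ∀ (U : Subgroup G) (g : G), U ≤ S → rimg g (U : Set G) ⊆ S → Chain F U g) :
    IsConjugationFamily F S := by
  refine ⟨hF, fun A g _ hA hg => ((h (closure A) g ((closure_le S).mpr hA) ?_).mono
    subset_closure).exists_fin⟩
  rw [rimg_subgroup]
  have h2 : (closure A).map (cnj g⁻¹) ≤ S :=
    Subgroup.map_le_iff_le_comap.mpr ((closure_le _).mpr fun a ha => by
      simpa [cnj] using hg ⟨a, ha, rfl⟩)
  exact h2

variable [Finite G] {p : ℕ} [Fact p.Prime]

theorem chain_of_forall_conj (S : Sylow p G) {F : Set (Subgroup G)}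
    (h : ∀ T : Subgroup G, T ≤ S → ∃ U ∈ F, (∃ g, T.map (cnj g) = U) ∧
      SylIn p (nS S U) (normalizer (U : Set G))) (hF : ∀ U ∈ F, U ≤ (S : Subgroup G)) :
    ∀ (T : Subgroup G) (g : G), T ≤ S → rimg g (T : Set G) ⊆ (S : Subgroup G) → Chain F T g := by
  intro T g
  induction hn : Nat.card (S : Subgroup G) - Nat.card T using Nat.strong_induction_on
    generalizing T g with
  | _ n ih =>
  intro hT hg
  obtain ⟨U, hUF, ⟨a, ha⟩, hU⟩ := h T hT
  rcases eq_or_lt_of_le hT with rfl | hlt
  · have hUS : U = S := eq_of_le_of_card_ge (hF U hUF) (by rw [← ha, card_map_cnj])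
    refine Chain.single U g hUF (by rw [hUS]) ?_
    rw [hUS, ← inv_mem_iff, ← map_cnj_eq_self]
    rw [rimg_subgroup] at hg
    exact eq_of_le_of_card_ge hg (card_map_cnj _ _).ge
  have key : ∀ V : Subgroup G, V ≤ S → V < nS S V → Nat.card V = Nat.card T →
      (∃ b, V.map (cnj b) = U) → ∃ k, Chain F V k ∧ rimg k (V : Set G) = U := by
    intro V hV hV' hc ⟨b, hb⟩
    have h1 : (nS (S : Subgroup G) V).map (cnj b) ≤ normalizer (U : Set G) := by
      rw [← hb, ← map_conj_normalizer]
      exact map_mono inf_le_right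
    obtain ⟨c, hc', hle⟩ := exists_conj_le_of_not_dvd_relIndex hU.1 hU.2.1 hU.2.2
      ((S.2.to_le inf_le_left).map _) h1
    have hlt' : Nat.card V < Nat.card (nS (S : Subgroup G) V) :=
      Set.Finite.card_lt_card (Set.toFinite _) (SetLike.coe_ssubset_coe.mpr hV')
    have hle' : Nat.card (nS (S : Subgroup G) V) ≤ Nat.card (S : Subgroup G) :=
      card_le_of_le inf_le_left
    refine ⟨(c * b)⁻¹, (ih _ (by omega) (nS (S : Subgroup G) V) (c * b)⁻¹ rfl inf_le_left
      ?_).mono (le_nS hV), ?_⟩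
    · rw [rimg_subgroup, inv_inv, ← map_cnj_cnj]
      exact (map_cnj_le_iff.mpr hle).trans inf_le_left
    · rw [rimg_subgroup, inv_inv, ← map_cnj_cnj, hb, map_cnj_eq_self.mpr hc']
  obtain ⟨k, hk, hkU⟩ := key T hT (lt_nS S.2 hlt) rfl ⟨a, ha⟩
  rw [rimg_subgroup] at hg
  have hlt2 : T.map (cnj g⁻¹) < S := lt_of_le_of_ne hg fun e => hlt.ne
    (eq_of_le_of_card_ge hT (by rw [← e, card_map_cnj]))
  obtain ⟨k2, hk2, hk2U⟩ := key (T.map (cnj g⁻¹)) hg (lt_nS S.2 hlt2) (card_map_cnj _ _)
    ⟨a * g, by rw [map_cnj_cnj, mul_inv_cancel_right, ha]⟩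
  rw [← rimg_subgroup, rimg_rimg] at hk2U
  have hmid : k⁻¹ * (g * k2) ∈ normalizer (U : Set G) := by
    rw [← inv_mem_iff, ← map_cnj_eq_self, ← SetLike.coe_set_eq, ← rimg_subgroup, ← hkU,
      rimg_rimg, mul_inv_cancel_left, hkU]
    exact hk2U
  have hk2' := hk2.symm
  rw [← rimg_subgroup, rimg_rimg, hk2U] at hk2'
  have h12 := hk.trans (k := k⁻¹ * (g * k2)) (by
    rw [hkU]; exact Chain.single U _ hUF subset_rfl hmid)
  rw [mul_inv_cancel_left] at h12
  have h123 := h12.trans (k := k2⁻¹) (by rw [hk2U]; exact hk2')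
  rwa [mul_inv_cancel_right] at h123

theorem isConjugationFamily_of_forall_conj (S : Sylow p G) {F : Set (Subgroup G)}
    (hF : ∀ U ∈ F, U ≤ (S : Subgroup G))
    (h : ∀ T : Subgroup G, T ≤ S → ∃ U ∈ F, (∃ g, T.map (cnj g) = U) ∧
      SylIn p (nS S U) (normalizer (U : Set G))) :
    IsConjugationFamily F (S : Subgroup G) :=
  isConjugationFamily_of_chain hF fun T g hT hg => chain_of_forall_conj S h hF T g hT hg

theorem isConjugationFamily_wellPlaced (S : Sylow p G) {W : Subgroup G → Subgroup G}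
    (hW : IsConjugacyFunctor p W) :
    IsConjugationFamily {T | IsWellPlaced p W (S : Subgroup G) T} (S : Subgroup G) :=
  isConjugationFamily_of_forall_conj S (fun _ hU => hU.1) fun T hT => by
    obtain ⟨g, -, hg⟩ := exists_conj_wellPlaced S hW hT
    exact ⟨_, hg, ⟨g, rfl⟩, wellPlaced_sylIn S hg⟩

end Cfsg.Agent.Techniques.Functor
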