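import Cfsg.Agent.Techniques.Functor.Sections
import Cfsg.Agent.Techniques.Functor.ConjFamily
import Cfsg.Agent.Techniques.Functor.Control
import Cfsg.Agent.Lib.PLocal.Cores
import Cfsg.Agent.Lib.Transfer.NormalPComplement

/-!
Control of strong fusion is inherited from the constrained sections.
-/

set_option autoImplicit false

namespace Cfsg.Agent.Techniques.Functor

universe u

open Cfsg Subgroup Cfsg.Agent.Fusion.SylIn

variable {p : ℕ} [Fact p.Prime] {𝓦 : Set (∀ (Q : Type u) [Group Q], Subgroup Q)}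

/-- The functors control strong fusion in `G`. -/
def FC (p : ℕ) (𝓦 : Set (∀ (Q : Type u) [Group Q], Subgroup Q)) (G : Type u) [Group G] : Prop :=
  ∀ S : Sylow p G, FusionCtl (induced 𝓦 G) ⊤ (S : Subgroup G)

variable {G H : Type u} [Group G] [Group H] [Finite G]

theorem fc_iff (h𝓦 : ∀ W ∈ 𝓦, IsCharPFunctor.{u} p W) :
    FamilyControlsStrongFusionIn p (induced 𝓦 G) ⊤ ↔ FC p 𝓦 G :=
  ⟨fun h S => fusionCtl_of_familyControls (isConjugacyFunctor_of_mem h𝓦) (of_sylow S) h,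
    fun h => familyControls_of_fusionCtl (of_sylow default) (h default)⟩

omit [Fact p.Prime] in
theorem reach_map_steps [Finite H] (h𝓦 : ∀ W ∈ 𝓦, IsCharPFunctor.{u} p W) (f : G →* H)
    (hf : Function.Injective f) {T : Subgroup G} (hT : IsPGroup p T) {A : Set G} {g : G}
    (h : Reach (steps (induced 𝓦 G) ⊤ T) T A g) :
    Reach (steps (induced 𝓦 H) f.range (T.map f)) (T.map f) (f '' A) (f g) := by
  refine h.map f ?_ le_rfl
  rintro z ⟨_, ⟨W, hW, rfl⟩, hz⟩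
  refine ⟨_, ⟨W, hW, rfl⟩, mem_inf.mpr ⟨⟨z, rfl⟩, ?_⟩⟩
  change f z ∈ normalizer ((inducedFunctor W (T.map f) : Subgroup H) : Set H)
  rw [← induced_map_of_injective (h𝓦 W hW) hf hT]
  exact le_normalizer_map f (mem_map_of_mem f (mem_inf.mp hz).2)

theorem fusionCtl_of_sub (h𝓦 : ∀ W ∈ 𝓦, IsCharPFunctor.{u} p W) {L T : Subgroup G}
    (hT : SylIn p T L) (h : FC p 𝓦 L) : FusionCtl (induced 𝓦 G) L T := by
  obtain ⟨R, rfl⟩ := exists_sylow_map hT
  intro A g hg hA hc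
  have h1 := h R (L.subtype ⁻¹' A) ⟨g, hg⟩ (mem_top _) (fun a ha => ?_) ?_
  · have h2 := reach_map_steps h𝓦 L.subtype L.subtype_injective R.2 h1
    rw [Subgroup.range_subtype, Set.image_preimage_eq_of_subset ?_] at h2
    · exact h2
    · intro a ha
      exact ⟨⟨a, hT.1 (hA ha)⟩, rfl⟩
  · obtain ⟨r, hr, he⟩ := hA ha
    rwa [← L.subtype_injective he]
  · refine cimg_subset_iff.mpr fun a ha => ?_
    obtain ⟨r, hr, he⟩ := hc ⟨(a : G), ha, rfl⟩
    rwa [← show r = _ from L.subtype_injective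
      (he.trans (show g * a * g⁻¹ = L.subtype (⟨g, hg⟩ * a * ⟨g, hg⟩⁻¹) from rfl))]

theorem reach_of_sub (h𝓦 : ∀ W ∈ 𝓦, IsCharPFunctor.{u} p W) (S : Sylow p G) {L : Subgroup G}
    (hS : (S : Subgroup G) ≤ L) (h : FC p 𝓦 L) {A : Set G} {g : G} (hg : g ∈ L)
    (hA : A ⊆ (S : Subgroup G)) (hc : cimg g A ⊆ (S : Subgroup G)) :
    Reach (steps (induced 𝓦 G) ⊤ (S : Subgroup G)) S A g :=
  (fusionCtl_of_sub h𝓦 (sylIn_of_le S hS) h A g hg hA hc).lift
    (fun _ z ⟨w, hw, hz⟩ _ hB => Reach.single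
      (show z ∈ steps (induced 𝓦 G) ⊤ (S : Subgroup G) from
        ⟨w, hw, mem_inf.mpr ⟨mem_top z, (mem_inf.mp hz).2⟩⟩) hB) hA

theorem fc_equiv [Finite H] (h𝓦 : ∀ W ∈ 𝓦, IsCharPFunctor.{u} p W) (e : G ≃* H)
    (h : FC p 𝓦 G) : FC p 𝓦 H := by
  intro S A g _ hA hc
  let R : Sylow p G := S.comapOfInjective e.toMonoidHom e.injective fun x _ => e.surjective x
  have hR : (R : Subgroup G).map e.toMonoidHom = S :=
    map_comap_eq_self_of_surjective e.surjective _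
  have h1 := h R (e ⁻¹' A) (e.symm g) (mem_top _) (fun a ha => hA ha) ?_
  · have h2 := reach_map_steps h𝓦 e.toMonoidHom e.injective R.2 h1
    rw [hR, MonoidHom.range_eq_top.mpr e.surjective] at h2
    simpa [Set.image_preimage_eq A e.surjective] using h2
  · refine cimg_subset_iff.mpr fun a ha => ?_
    change e (e.symm g * a * (e.symm g)⁻¹) ∈ (S : Subgroup H)
    simp only [map_mul, map_inv, MulEquiv.apply_symm_apply]
    exact hc ⟨e a, ha, rfl⟩

theorem cimg_subset_of_reach {M : Set G} {T : Subgroup G} {A : Set G} {g : G}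
    (h : Reach M T A g) : A ⊆ T → cimg g A ⊆ T := by
  induction h with
  | done A g hg =>
    intro hA
    refine cimg_subset_iff.mpr fun a ha => ?_
    rw [hg a ha]
    exact hA ha
  | step A g z hz hs _ ih =>
    intro _
    have := ih hs
    rwa [cimg_cimg, inv_mul_cancel_right] at this

/-- Lifting a chain along a homomorphism. -/
theorem reach_lift {f : G →* H} {Mb : Set H} {Tb : Subgroup H} {Ab : Set H} {gb : H}
    (h : Reach Mb Tb Ab gb) {M : Set G} {T : Subgroup G}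
    (hstep : ∀ (B : Set G) (z : H), z ∈ Mb → B ⊆ T → cimg z (f '' B) ⊆ Tb →
      ∃ w, f w = z ∧ Reach M T B w) :
    ∀ A : Set G, A ⊆ T → f '' A = Ab →
      ∃ n, Reach M T A n ∧ ∀ a ∈ A, f (n * a * n⁻¹) = gb * f a * gb⁻¹ := by
  induction h with
  | done Ab gb hg =>
    rintro A - rfl
    refine ⟨1, Reach.done _ _ fun a _ => by simp, fun a ha => ?_⟩
    rw [hg _ ⟨a, ha, rfl⟩]
    simp
  | step Ab gb z hz hs _ ih =>
    rintro A hA rfl
    obtain ⟨w, hw, hr⟩ := hstep A z hz hA hs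
    obtain ⟨n, hn, he⟩ := ih (cimg w A) (cimg_subset_of_reach hr hA)
      (by simp [cimg, Set.image_image, hw])
    refine ⟨n * w, hr.trans hn, fun a ha => ?_⟩
    calc f (n * w * a * (n * w)⁻¹) = f (n * (w * a * w⁻¹) * n⁻¹) := by
          congr 1; group
      _ = gb * z⁻¹ * f (w * a * w⁻¹) * (gb * z⁻¹)⁻¹ := he _ ⟨a, ha, rfl⟩
      _ = gb * f a * gb⁻¹ := by simp [hw, mul_assoc]

theorem eq_one_of_mem_coprime {S K : Subgroup G} (hS : IsPGroup p S)
    (hK : (Nat.card K).Coprime p) {x : G} (h1 : x ∈ S) (h2 : x ∈ K) : x = 1 := by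
  obtain ⟨k, hk⟩ := IsPGroup.iff_orderOf.mp hS ⟨x, h1⟩
  rw [orderOf_mk] at hk
  have h3 : p ^ k ∣ Nat.card K := by
    rw [← hk, ← Subgroup.orderOf_mk x h2]
    exact orderOf_dvd_natCard _
  rw [← orderOf_eq_one_iff, hk]
  exact Nat.eq_one_of_dvd_coprimes (hK.pow_right k).symm dvd_rfl h3

theorem relIndex_sup_coprime {S K : Subgroup G} (hK : (Nat.card K).Coprime p)
    (hn : S ≤ normalizer (K : Set G)) : ¬ p ∣ S.relIndex (S ⊔ K) := by
  have : ((K.subgroupOf (S ⊔ K))).Normal :=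
    normal_subgroupOf_iff_le_normalizer le_sup_right |>.mpr (sup_le hn le_normalizer)
  have h1 := Cfsg.Agent.PLocal.Cores.card_sup_dvd_of_normal (S.subgroupOf (S ⊔ K))
    (K.subgroupOf (S ⊔ K))
  rw [← subgroupOf_sup le_sup_left le_sup_right, subgroupOf_self,
    Nat.card_congr (subgroupOfEquivOfLe (le_sup_left : S ≤ S ⊔ K)).toEquiv,
    Nat.card_congr (subgroupOfEquivOfLe (le_sup_right : K ≤ S ⊔ K)).toEquiv, card_top,
    ← relIndex_bot_left (H := S ⊔ K), ← relIndex_mul_relIndex ⊥ S (S ⊔ K) bot_le le_sup_left,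
    relIndex_bot_left] at h1
  intro h
  replace h := h.trans (Nat.dvd_of_mul_dvd_mul_left Nat.card_pos h1)
  exact ((Fact.out : p.Prime).coprime_iff_not_dvd.mp hK.symm) h

theorem fc_of_coprime_ker [Finite H] (h𝓦 : ∀ W ∈ 𝓦, IsCharPFunctor.{u} p W) {f : G →* H}
    (hf : Function.Surjective f) (hK : (Nat.card f.ker).Coprime p) (h : FC p 𝓦 H) :
    FC p 𝓦 G := by
  intro S A g _ hA hc
  let Sb : Sylow p H := S.mapSurjective hf
  have hinj : ∀ x ∈ (S : Subgroup G), f x = 1 → x = 1 := fun x hx he =>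
    eq_one_of_mem_coprime S.2 hK hx he
  have h1 := h Sb (f '' A) (f g) (mem_top _) ?_ ?_
  rotate_left
  · rintro _ ⟨a, ha, rfl⟩
    exact mem_map_of_mem f (hA ha)
  · rintro _ ⟨_, ⟨a, ha, rfl⟩, rfl⟩
    change f g * f a * (f g)⁻¹ ∈ (S : Subgroup G).map f
    rw [← map_inv, ← map_mul, ← map_mul]
    exact mem_map_of_mem f (hc ⟨a, ha, rfl⟩)
  suffices hstep : ∀ (B : Set G) (z : H), z ∈ steps (induced 𝓦 H) ⊤ (Sb : Subgroup H) →
      B ⊆ (S : Subgroup G) → cimg z (f '' B) ⊆ (Sb : Subgroup H) →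
      ∃ w, f w = z ∧ Reach (steps (induced 𝓦 G) ⊤ (S : Subgroup G)) S B w by
    obtain ⟨n, hn, he⟩ := reach_lift h1 hstep A hA rfl
    refine hn.congr fun a ha => ?_
    have h2 : n * a * n⁻¹ ∈ (S : Subgroup G) := cimg_subset_of_reach hn hA ⟨a, ha, rfl⟩
    refine mul_inv_eq_one.mp (hinj _ (Subgroup.mul_mem _ (hc ⟨a, ha, rfl⟩)
      (Subgroup.inv_mem _ h2)) ?_)
    rw [map_mul f _ (n * a * n⁻¹)⁻¹, map_inv f (n * a * n⁻¹), he a ha]
    simp
  rintro B z ⟨_, ⟨W, hW, rfl⟩, hz⟩ hB hzB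
  obtain ⟨z0, rfl⟩ := hf z
  set X := inducedFunctor W (S : Subgroup G) with hXdef
  have hWf : IsConjugacyFunctor p (inducedFunctor (G := G) W) :=
    isConjugacyFunctor_induced (h𝓦 W hW)
  have hX : X ≤ S := functor_le hWf S.2
  have hSN : (S : Subgroup G) ≤ normalizer (X : Set G) :=
    le_normalizer.trans (normalizer_le_functor hWf S.2)
  have hXf : X.map f = inducedFunctor W (Sb : Subgroup H) := induced_map (h𝓦 W hW) f S.2 hinj
  have hz' : f z0 ∈ normalizer (X.map f : Set H) := hXf.symm ▸ (mem_inf.mp hz).2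
  have hle : X.map (cnj z0) ≤ X ⊔ f.ker := by
    rw [← comap_map_eq, ← map_le_iff_le_comap]
    rintro _ ⟨_, ⟨x, hx, rfl⟩, rfl⟩
    simpa [map_mul, map_inv] using
      (Subgroup.mem_normalizer_iff.mp hz' (f x)).mp (mem_map_of_mem f hx)
  obtain ⟨c, hc', hcX⟩ := exists_conj_le_of_not_dvd_relIndex (le_sup_left : X ≤ X ⊔ f.ker)
    (S.2.to_le hX) (relIndex_sup_coprime hK (le_top.trans (normalizer_eq_top (H := f.ker)).ge))
    ((S.2.to_le hX).map (cnj z0)) hle
  obtain ⟨x0, hx0, k, hk, rfl⟩ := mem_sup_of_normal_right.mp hc'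
  have hzN : k * z0 ∈ normalizer (X : Set G) := by
    rw [← map_cnj_eq_self]
    refine eq_of_le_of_card_ge (map_cnj_le_iff.mpr fun x hx => ?_) (card_map_cnj _ _).ge
    have h3 := hcX _ (conj_mem_map_conj hx)
    have h4 := X.mul_mem (X.mul_mem (X.inv_mem hx0) h3) hx0
    simpa [mul_assoc] using h4
  set N := normalizer (X : Set G) with hNdef
  have hB' : closure B ≤ N := ((closure_le _).mpr hB).trans hSN
  have hle2 : (closure B).map (cnj (k * z0)) ≤ (S : Subgroup G) ⊔ (N ⊓ f.ker) := by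
    intro y hy
    have hyN : y ∈ N := by
      obtain ⟨b, hb, rfl⟩ := hy
      exact N.mul_mem (N.mul_mem hzN (hB' hb)) (N.inv_mem hzN)
    have hy2 : (closure B).map (cnj (k * z0)) ≤ (S : Subgroup G) ⊔ f.ker := by
      rw [← comap_map_eq, map_le_iff_le_comap, closure_le]
      intro b hb
      have h5 : f z0 * f b * (f z0)⁻¹ ∈ (S : Subgroup G).map f := hzB ⟨f b, ⟨b, hb, rfl⟩, rfl⟩
      change f (k * z0 * b * (k * z0)⁻¹) ∈ (S : Subgroup G).map f
      rw [show f (k * z0 * b * (k * z0)⁻¹) = f z0 * f b * (f z0)⁻¹ by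
        simp [MonoidHom.mem_ker.mp hk, mul_assoc]]
      exact h5
    obtain ⟨s, hs, k', hk', rfl⟩ := mem_sup_of_normal_right.mp (hy2 hy)
    refine mul_mem_sup hs (mem_inf.mpr ⟨?_, hk'⟩)
    have := N.mul_mem (N.inv_mem (hSN hs)) hyN
    simpa using this
  have hKn : (S : Subgroup G) ≤ normalizer ((N ⊓ f.ker : Subgroup G) : Set G) :=
    (hSN.trans le_normalizer).trans fun x hx => by
      rw [← map_cnj_eq_self, Subgroup.map_inf _ _ _ (MulAut.conj x).injective,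
        map_cnj_eq_self.mpr hx,
        map_cnj_eq_self.mpr ((normalizer_eq_top (H := f.ker)).ge (mem_top x))]
  obtain ⟨c2, hc2, hcS⟩ := exists_conj_le_of_not_dvd_relIndex
    (le_sup_left : (S : Subgroup G) ≤ (S : Subgroup G) ⊔ (N ⊓ f.ker)) S.2
    (relIndex_sup_coprime (hK.coprime_dvd_left (card_dvd_of_le inf_le_right)) hKn)
    ((S.2.to_le ((closure_le _).mpr hB)).map (cnj (k * z0))) hle2
  rw [← SetLike.mem_coe, coe_mul_of_left_le_normalizer_right _ _ hKn] at hc2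
  obtain ⟨s0, hs0, k2, hk2, rfl⟩ := hc2
  refine ⟨k2 * (k * z0), by simp [MonoidHom.mem_ker.mp hk, MonoidHom.mem_ker.mp (mem_inf.mp hk2).2],
    Reach.single (show k2 * (k * z0) ∈ steps (induced 𝓦 G) ⊤ (S : Subgroup G) from
      ⟨_, ⟨W, hW, rfl⟩, mem_inf.mpr ⟨mem_top _, N.mul_mem (mem_inf.mp hk2).1 hzN⟩⟩) ?_⟩
  refine cimg_subset_iff.mpr fun b hb => ?_
  have h6 := hcS _ (conj_mem_map_conj (subset_closure hb))
  have h7 := (S : Subgroup G).mul_mem ((S : Subgroup G).mul_mem ((S : Subgroup G).inv_mem hs0) h6) hs0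
  change k2 * (k * z0) * b * (k2 * (k * z0))⁻¹ ∈ (S : Subgroup G)
  rw [show k2 * (k * z0) * b * (k2 * (k * z0))⁻¹ =
    s0⁻¹ * ((s0 * k2) * ((k * z0) * b * (k * z0)⁻¹) * (s0 * k2)⁻¹) * s0 by group]
  exact h7

end Cfsg.Agent.Techniques.Functor
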