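import Cfsg.Agent.Techniques.Functor.Basic
import Mathlib.GroupTheory.QuotientGroup.Basic

/-!
Sections of a group, and induced functors under homomorphisms.
-/

set_option autoImplicit false

namespace Cfsg.Agent.Techniques.Functor

universe u

open Cfsg Subgroup Cfsg.Agent.Fusion.SylIn

/-- `H` is a homomorphic image of a subgroup of `G`. -/
def IsSec (G : Type u) [Group G] (H : Type u) [Group H] : Prop :=
  ∃ (K : Subgroup G) (f : ↥K →* H), Function.Surjective f

variable {G H H' : Type u} [Group G] [Group H] [Group H']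

theorem IsSec.refl (G : Type u) [Group G] : IsSec G G :=
  ⟨⊤, (Subgroup.topEquiv : (⊤ : Subgroup G) ≃* G).toMonoidHom,
    (Subgroup.topEquiv : (⊤ : Subgroup G) ≃* G).surjective⟩

theorem IsSec.surj (h : IsSec G H) {f : H →* H'} (hf : Function.Surjective f) : IsSec G H' := by
  obtain ⟨K, g, hg⟩ := h
  exact ⟨K, f.comp g, hf.comp hg⟩

theorem IsSec.sub (h : IsSec G H) (L : Subgroup H) : IsSec G L := by
  obtain ⟨K, g, hg⟩ := h
  let e : ↥((L.comap g).map K.subtype) ≃* ↥(L.comap g) :=
    ((L.comap g).equivMapOfInjective K.subtype K.subtype_injective).symm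
  refine ⟨_, (g.subgroupComap L).comp e.toMonoidHom,
    (MonoidHom.subgroupComap_surjective_of_surjective g L hg).comp e.surjective⟩

theorem IsSec.finite [Finite G] (h : IsSec G H) : Finite H := by
  obtain ⟨K, g, hg⟩ := h
  exact Finite.of_surjective g hg

/-- A section is isomorphic to some quotient `K ⧸ R`. -/
theorem IsSec.exists_quotient (h : IsSec G H) :
    ∃ (K R : Subgroup G) (_ : (R.subgroupOf K).Normal), Nonempty (↥K ⧸ R.subgroupOf K ≃* H) := by
  obtain ⟨K, f, hf⟩ := h
  have e : (f.ker.map K.subtype).subgroupOf K = f.ker :=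
    comap_map_eq_self_of_injective K.subtype_injective _
  have hn : ((f.ker.map K.subtype).subgroupOf K).Normal := by rw [e]; infer_instance
  exact ⟨K, f.ker.map K.subtype, hn,
    ⟨((QuotientGroup.quotientMulEquivOfEq e).trans
      (QuotientGroup.quotientKerEquivOfSurjective f hf))⟩⟩

theorem isSec_quotient (K R : Subgroup G) [(R.subgroupOf K).Normal] :
    IsSec G (↥K ⧸ R.subgroupOf K) :=
  ⟨K, QuotientGroup.mk' _, QuotientGroup.mk'_surjective _⟩

theorem card_quotient_lt [Finite G] {N : Subgroup G} (h : N ≠ ⊥) :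
    Nat.card (G ⧸ N) < Nat.card G := by
  have h1 := Subgroup.card_eq_card_quotient_mul_card_subgroup N
  have h2 : 1 < Nat.card N := N.one_lt_card_iff_ne_bot.mpr h
  have h3 : 0 < Nat.card (G ⧸ N) := Nat.card_pos
  rw [h1]
  exact lt_mul_of_one_lt_right h3 h2

theorem card_subgroup_lt [Finite G] {L : Subgroup G} (h : L ≠ ⊤) : Nat.card L < Nat.card G :=
  lt_of_le_of_ne (Subgroup.card_le_card_group L) fun e => h (eq_top_of_card_eq L e)

/-! ### Functors -/

variable {p : ℕ} {W : ∀ (Q : Type u) [Group Q], Subgroup Q}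

theorem induced_map [Finite G] (hW : IsCharPFunctor.{u} p W) (f : G →* H) {P : Subgroup G}
    (hP : IsPGroup p P) (hinj : ∀ x ∈ P, f x = 1 → x = 1) :
    (inducedFunctor W P).map f = inducedFunctor W (P.map f) := by
  have hb : Function.Bijective (f.subgroupMap P) := by
    refine ⟨(injective_iff_map_eq_one _).mpr fun x hx => ?_, f.subgroupMap_surjective P⟩
    exact Subtype.ext (hinj x x.2 (congrArg Subtype.val hx))
  have h1 := hW.2 ↥P ↥(P.map f) hP (MulEquiv.ofBijective _ hb)
  change ((W ↥P).map P.subtype).map f = (W ↥(P.map f)).map (P.map f).subtype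
  rw [← h1, Subgroup.map_map, Subgroup.map_map]
  rfl

theorem induced_map_of_injective [Finite G] (hW : IsCharPFunctor.{u} p W) {f : G →* H}
    (hf : Function.Injective f) {P : Subgroup G} (hP : IsPGroup p P) :
    (inducedFunctor W P).map f = inducedFunctor W (P.map f) :=
  induced_map hW f hP fun _ _ h => hf (by rw [h, map_one])

theorem isConjugacyFunctor_induced [Finite G] (hW : IsCharPFunctor.{u} p W) :
    IsConjugacyFunctor p (inducedFunctor (G := G) W) := by
  intro P hP
  refine ⟨Subgroup.map_subtype_le _, fun hne he => ?_,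
    fun g => (induced_map_of_injective hW (MulAut.conj g).injective hP).symm⟩
  have : Nontrivial P := (Subgroup.nontrivial_iff_ne_bot P).mpr hne
  exact hW.1 ↥P hP this ((map_eq_bot_iff_of_injective _ P.subtype_injective).mp he)

/-- The functors induced on `G` by a set of functors on groups. -/
abbrev induced (𝓦 : Set (∀ (Q : Type u) [Group Q], Subgroup Q)) (G : Type u) [Group G] :
    Set (Subgroup G → Subgroup G) :=
  (fun W => inducedFunctor (G := G) W) '' 𝓦

theorem isConjugacyFunctor_of_mem [Finite G] {𝓦 : Set (∀ (Q : Type u) [Group Q], Subgroup Q)}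
    (h𝓦 : ∀ W ∈ 𝓦, IsCharPFunctor.{u} p W) :
    ∀ w ∈ induced 𝓦 G, IsConjugacyFunctor p w := by
  rintro _ ⟨W, hW, rfl⟩
  exact isConjugacyFunctor_induced (h𝓦 W hW)

variable [Finite G] [Fact p.Prime]

theorem exists_sylow_map {T B : Subgroup G} (h : SylIn p T B) :
    ∃ R : Sylow p B, (R : Subgroup B).map B.subtype = T := by
  obtain ⟨h1, h2, h3⟩ := h
  exact ⟨(h2.comap_subtype (K := B)).toSylow h3, map_subgroupOf_eq_of_le h1⟩

theorem sylIn_sylow_map {B : Subgroup G} (R : Sylow p B) :
    SylIn p ((R : Subgroup B).map B.subtype) B :=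
  (sylIn_iff_exists (map_subtype_le _)).mpr
    ⟨R, (comap_map_eq_self_of_injective B.subtype_injective _).symm⟩

end Cfsg.Agent.Techniques.Functor
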