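import Cfsg.Agent.Techniques.Functor.Basic

/-!
Chains of conjugations inside a subgroup, and the definition of control of strong fusion by a set
of functors in terms of them.
-/

set_option autoImplicit false

namespace Cfsg.Agent.Techniques.Functor

open Cfsg Subgroup Cfsg.Agent.Fusion.SylIn

variable {G : Type*} [Group G]

/-- Conjugate on the left. -/
def cimg (g : G) (A : Set G) : Set G := (fun a => g * a * g⁻¹) '' A

theorem cimg_one (A : Set G) : cimg (1 : G) A = A := by simp [cimg]

theorem cimg_cimg (g h : G) (A : Set G) : cimg h (cimg g A) = cimg (h * g) A := by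
  simp [cimg, Set.image_image, mul_assoc]

theorem cimg_mono {g : G} {A B : Set G} (h : A ⊆ B) : cimg g A ⊆ cimg g B := Set.image_mono h

theorem cimg_subgroup (g : G) (H : Subgroup G) :
    cimg g (H : Set G) = (H.map (cnj g) : Subgroup G) := by
  ext x
  simp [cimg, Subgroup.mem_map, cnj]

theorem cimg_subset_iff {g : G} {A B : Set G} :
    cimg g A ⊆ B ↔ ∀ a ∈ A, g * a * g⁻¹ ∈ B := Set.image_subset_iff

theorem cimg_congr {g h : G} {A : Set G} (he : ∀ a ∈ A, g * a * g⁻¹ = h * a * h⁻¹) :
    cimg g A = cimg h A := Set.image_congr he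

theorem map_closure_le {g : G} {A : Set G} {T : Subgroup G} (h : cimg g A ⊆ T) :
    (closure A).map (cnj g) ≤ T := by
  rw [MonoidHom.map_closure, closure_le]
  exact h

/-- `g` acts on `A` as a product of elements of `M`, all partial conjugates of `A` lying in `T`. -/
inductive Reach (M : Set G) (T : Subgroup G) : Set G → G → Prop
  | done (A : Set G) (g : G) : (∀ a ∈ A, g * a * g⁻¹ = a) → Reach M T A g
  | step (A : Set G) (g z : G) : z ∈ M → cimg z A ⊆ T → Reach M T (cimg z A) (g * z⁻¹) →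
      Reach M T A g

variable {M : Set G} {T : Subgroup G} {A : Set G} {g : G}

theorem Reach.congr (h : Reach M T A g) :
    ∀ {g' : G}, (∀ a ∈ A, g' * a * g'⁻¹ = g * a * g⁻¹) → Reach M T A g' := by
  induction h with
  | done A g hg => exact fun he => Reach.done _ _ fun a ha => (he a ha).trans (hg a ha)
  | step A g z hz hs _ ih =>
    intro g' he
    refine Reach.step A g' z hz hs (ih ?_)
    rintro _ ⟨a, ha, rfl⟩
    calc g' * z⁻¹ * (z * a * z⁻¹) * (g' * z⁻¹)⁻¹ = g' * a * g'⁻¹ := by group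
      _ = g * a * g⁻¹ := he a ha
      _ = g * z⁻¹ * (z * a * z⁻¹) * (g * z⁻¹)⁻¹ := by group

theorem Reach.mono (h : Reach M T A g) : ∀ {B : Set G}, B ⊆ A → Reach M T B g := by
  induction h with
  | done A g hg => exact fun hB => Reach.done _ _ fun a ha => hg a (hB ha)
  | step A g z hz hs _ ih =>
    exact fun hB => Reach.step _ _ z hz ((cimg_mono hB).trans hs) (ih (cimg_mono hB))

theorem Reach.single {z : G} (hz : z ∈ M) (h : cimg z A ⊆ T) : Reach M T A z :=
  Reach.step A z z hz h (Reach.done _ _ fun a _ => by simp)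

theorem Reach.trans (h : Reach M T A g) :
    ∀ {k : G}, Reach M T (cimg g A) k → Reach M T A (k * g) := by
  induction h with
  | done A g hg =>
    intro k hk
    have e : cimg g A = A := by
      rw [cimg_congr (h := (1 : G)) (fun a ha => by simpa using hg a ha), cimg_one]
    rw [e] at hk
    refine hk.congr fun a ha => ?_
    calc k * g * a * (k * g)⁻¹ = k * (g * a * g⁻¹) * k⁻¹ := by group
      _ = k * a * k⁻¹ := by rw [hg a ha]
  | step A g z hz hs _ ih =>
    intro k hk
    refine Reach.step A _ z hz hs ?_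
    rw [mul_assoc]
    refine ih ?_
    rwa [cimg_cimg, inv_mul_cancel_right]

theorem Reach.symm (hM : ∀ z ∈ M, z⁻¹ ∈ M) (h : Reach M T A g) :
    A ⊆ T → Reach M T (cimg g A) g⁻¹ := by
  induction h with
  | done A g hg =>
    intro _
    refine Reach.done _ _ ?_
    rintro _ ⟨a, ha, rfl⟩
    dsimp only
    rw [hg a ha]
    calc g⁻¹ * a * g⁻¹⁻¹ = g⁻¹ * (g * a * g⁻¹) * g := by rw [hg a ha, inv_inv]
      _ = a := by group
  | step A g z hz hs _ ih =>
    intro hA
    have h1 := ih hs
    rw [cimg_cimg, inv_mul_cancel_right, mul_inv_rev, inv_inv] at h1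
    have h2 : Reach M T (cimg (z * g⁻¹) (cimg g A)) z⁻¹ := by
      refine Reach.single (hM z hz) ?_
      rw [cimg_cimg, cimg_cimg]
      simpa [cimg_one] using hA
    simpa using h1.trans h2

theorem Reach.exists_fin (h : Reach M T A g) : A ⊆ T →
    ∃ (n : ℕ) (c : Fin (n + 1) → G), c 0 = 1 ∧
      (∀ i : Fin n, c i.succ * (c i.castSucc)⁻¹ ∈ M) ∧
      (∀ i : Fin (n + 1), (fun a => c i * a * (c i)⁻¹) '' A ⊆ T) ∧
      ∀ a ∈ A, c (Fin.last n) * a * (c (Fin.last n))⁻¹ = g * a * g⁻¹ := by
  induction h with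
  | done A g hg =>
    exact fun hA => ⟨0, fun _ => 1, rfl, (·.elim0), fun _ => by simpa using hA,
      fun a ha => by simpa using (hg a ha).symm⟩
  | step A g z hz hs _ ih =>
    intro hA
    obtain ⟨n, c, h0, h1, h2, h3⟩ := ih hs
    refine ⟨n + 1, Fin.cons 1 (fun i => c i * z), rfl, ?_, ?_, ?_⟩
    · intro i
      cases i using Fin.cases with
      | zero => simpa [h0] using hz
      | succ j =>
        simpa [← Fin.succ_castSucc, mul_assoc] using h1 j
    · intro i
      cases i using Fin.cases with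
      | zero => simpa using hA
      | succ j =>
        refine Eq.trans_subset ?_ (h2 j)
        simp [cimg, Set.image_image, mul_assoc]
    · intro a ha
      have := h3 _ ⟨a, ha, rfl⟩
      rw [← Fin.succ_last, Fin.cons_succ]
      simpa [mul_assoc] using this

theorem Reach.of_fin : ∀ (n : ℕ) (c : Fin (n + 1) → G) (A : Set G) (g : G), c 0 = 1 →
    (∀ i : Fin n, c i.succ * (c i.castSucc)⁻¹ ∈ M) →
    (∀ i : Fin (n + 1), (fun a => c i * a * (c i)⁻¹) '' A ⊆ T) →
    (∀ a ∈ A, c (Fin.last n) * a * (c (Fin.last n))⁻¹ = g * a * g⁻¹) → Reach M T A g := by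
  intro n
  induction n with
  | zero =>
    intro c A g h0 _ _ h3
    refine Reach.done _ _ fun a ha => ?_
    rw [← h3 a ha]
    simp [h0]
  | succ n ih =>
    intro c A g h0 h1 h2 h3
    have hz : c 1 ∈ M := by simpa [h0] using h1 0
    refine Reach.step A g (c 1) hz (h2 1) (ih (fun i => c i.succ * (c 1)⁻¹) _ _ ?_ ?_ ?_ ?_)
    · simp
    · intro i
      simpa [mul_assoc, ← Fin.succ_castSucc] using h1 i.succ
    · intro i
      refine Eq.trans_subset ?_ (h2 i.succ)
      simp [cimg, Set.image_image, mul_assoc]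
    · rintro _ ⟨a, ha, rfl⟩
      have := h3 a ha
      rw [← Fin.succ_last] at this
      calc c (Fin.last n).succ * (c 1)⁻¹ * (c 1 * a * (c 1)⁻¹) *
            (c (Fin.last n).succ * (c 1)⁻¹)⁻¹
          = c (Fin.last n).succ * a * (c (Fin.last n).succ)⁻¹ := by group
        _ = g * a * g⁻¹ := this
        _ = g * (c 1)⁻¹ * (c 1 * a * (c 1)⁻¹) * (g * (c 1)⁻¹)⁻¹ := by group

theorem Reach.lift {M' : Set G} {T' : Subgroup G} (h : Reach M T A g)
    (hstep : ∀ (B : Set G) (z : G), z ∈ M → B ⊆ T → cimg z B ⊆ T → Reach M' T' B z) :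
    A ⊆ T → Reach M' T' A g := by
  induction h with
  | done A g hg => exact fun _ => Reach.done _ _ hg
  | step A g z hz hs _ ih =>
    intro hA
    simpa using (hstep A z hz hA hs).trans (ih hs)

theorem Reach.map {H : Type*} [Group H] (f : G →* H) {M' : Set H} {T' : Subgroup H}
    (h : Reach M T A g) (hM : ∀ z ∈ M, f z ∈ M') (hT : T.map f ≤ T') :
    Reach M' T' (f '' A) (f g) := by
  induction h with
  | done A g hg =>
    refine Reach.done _ _ ?_
    rintro _ ⟨a, ha, rfl⟩
    rw [← map_inv, ← map_mul, ← map_mul, hg a ha]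
  | step A g z hz hs _ ih =>
    have e : f '' cimg z A = cimg (f z) (f '' A) := by simp [cimg, Set.image_image]
    refine Reach.step _ _ (f z) (hM z hz) ?_ ?_
    · rw [← e]
      rintro _ ⟨b, hb, rfl⟩
      exact hT (mem_map_of_mem f (hs hb))
    · rw [← e, ← map_inv, ← map_mul]
      exact ih

/-- A chain inside a subgroup is a single element. -/
theorem Reach.exists_mem {N : Subgroup G} (h : Reach (N : Set G) T A g) :
    ∃ x ∈ N, ∀ a ∈ A, x * a * x⁻¹ = g * a * g⁻¹ := by
  induction h with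
  | done A g hg => exact ⟨1, N.one_mem, fun a ha => by simp [hg a ha]⟩
  | step A g z hz hs _ ih =>
    obtain ⟨x, hx, he⟩ := ih
    refine ⟨x * z, N.mul_mem hx hz, fun a ha => ?_⟩
    calc x * z * a * (x * z)⁻¹ = x * (z * a * z⁻¹) * x⁻¹ := by group
      _ = g * z⁻¹ * (z * a * z⁻¹) * (g * z⁻¹)⁻¹ := he _ ⟨a, ha, rfl⟩
      _ = g * a * g⁻¹ := by group

/-! ### Control -/

/-- The elements allowed in one step. -/
def steps (W : Set (Subgroup G → Subgroup G)) (H T : Subgroup G) : Set G :=
  {z | ∃ w ∈ W, z ∈ H ⊓ normalizer ((w T : Subgroup G) : Set G)}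

theorem steps_inv {W : Set (Subgroup G → Subgroup G)} {H T : Subgroup G} :
    ∀ z ∈ steps W H T, z⁻¹ ∈ steps W H T :=
  fun _ ⟨w, hw, hz⟩ => ⟨w, hw, Subgroup.inv_mem _ hz⟩

theorem steps_singleton (w : Subgroup G → Subgroup G) (H T : Subgroup G) :
    steps {w} H T = ((H ⊓ normalizer ((w T : Subgroup G) : Set G) : Subgroup G) : Set G) := by
  ext z
  simp only [steps, Set.mem_singleton_iff, exists_eq_left, Set.mem_setOf_eq, SetLike.mem_coe]

/-- Control of strong fusion in `H`, computed in the Sylow subgroup `T` of `H`. -/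
def FusionCtl (W : Set (Subgroup G → Subgroup G)) (H T : Subgroup G) : Prop :=
  ∀ (A : Set G) (h : G), h ∈ H → A ⊆ T → cimg h A ⊆ T → Reach (steps W H T) T A h

theorem fusionCtl_iff_fin {W : Set (Subgroup G → Subgroup G)} {H T : Subgroup G} :
    FusionCtl W H T ↔ ∀ (A : Set G) (h : G), h ∈ H → A ⊆ T →
      (fun a => h * a * h⁻¹) '' A ⊆ T →
      ∃ (n : ℕ) (c : Fin (n + 1) → G), c 0 = 1 ∧
        (∀ i : Fin n, ∃ w ∈ W,
          c i.succ * (c i.castSucc)⁻¹ ∈ H ⊓ normalizer ((w T : Subgroup G) : Set G)) ∧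
        (∀ i : Fin (n + 1), (fun a => c i * a * (c i)⁻¹) '' A ⊆ T) ∧
        ∀ a ∈ A, c (Fin.last n) * a * (c (Fin.last n))⁻¹ = h * a * h⁻¹ := by
  refine forall₂_congr fun A h => ⟨fun hr hh hA hc => (hr hh hA hc).exists_fin hA,
    fun hr hh hA hc => ?_⟩
  obtain ⟨n, c, h0, h1, h2, h3⟩ := hr hh hA hc
  exact Reach.of_fin n c A h h0 h1 h2 h3

variable [Finite G] {p : ℕ} [Fact p.Prime] {W : Set (Subgroup G → Subgroup G)}

omit [Finite G] [Fact p.Prime] in
theorem fusionCtl_map (hW : ∀ w ∈ W, IsConjugacyFunctor p w) {H T : Subgroup G}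
    (hT : IsPGroup p T) (h : FusionCtl W H T) (k : G) :
    FusionCtl W (H.map (cnj k)) (T.map (cnj k)) := by
  intro A g hg hA hc
  have h1 := h (cimg k⁻¹ A) (k⁻¹ * g * k) (mem_map_cnj.mp hg)
    (cimg_subset_iff.mpr fun a ha => by simpa using mem_map_cnj.mp (hA ha)) (by
      rw [cimg_cimg]
      refine cimg_subset_iff.mpr fun a ha => ?_
      simpa [mul_assoc] using mem_map_cnj.mp (hc ⟨a, ha, rfl⟩))
  have h2 := h1.map (cnj k) (M' := steps W (H.map (cnj k)) (T.map (cnj k)))
    (T' := T.map (cnj k)) (fun z ⟨w, hw, hz⟩ => ⟨w, hw, ?_⟩) le_rfl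
  · have e : (cnj k) '' cimg k⁻¹ A = A := by simp [cimg, cnj, Set.image_image, mul_assoc]
    rw [e] at h2
    simpa [cnj, mul_assoc] using h2
  · rw [functor_map (hW w hw) hT,
      ← show (normalizer ((w T : Subgroup G) : Set G)).map (cnj k) = _ from map_conj_normalizer k _,
      ← Subgroup.map_inf _ _ _ (MulAut.conj k).injective]
    exact mem_map_of_mem _ hz

/-- The definition does not depend on the choice of the Sylow subgroup. -/
theorem fusionCtl_of_familyControls (hW : ∀ w ∈ W, IsConjugacyFunctor p w) {H P : Subgroup G}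
    (hP : SylIn p P H) (h : FamilyControlsStrongFusionIn p W H) : FusionCtl W H P := by
  obtain ⟨T, hTH, hT, hd, hc⟩ := h
  obtain ⟨k, hk, hle⟩ := exists_conj_le_of_not_dvd_relIndex hP.1 hP.2.1 hP.2.2 hT hTH
  have hkH : H.map (cnj k) = H := map_cnj_eq_self.mpr (le_normalizer hk)
  have hs : SylIn p (T.map (cnj k)) H := by
    have := sylIn_map (⟨hTH, hT, hd⟩ : SylIn p T H) k
    rwa [hkH] at this
  have he : T.map (cnj k) = P :=
    hs.eq_of_le (map_cnj_le_iff.mpr hle) hP.1 hP.2.1
  have := fusionCtl_map hW hT (fusionCtl_iff_fin.mpr hc) k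
  rwa [hkH, he] at this

omit [Finite G] [Fact p.Prime] in
theorem familyControls_of_fusionCtl {H P : Subgroup G}
    (hP : SylIn p P H) (h : FusionCtl W H P) : FamilyControlsStrongFusionIn p W H :=
  ⟨P, hP.1, hP.2.1, hP.2.2, fusionCtl_iff_fin.mp h⟩

omit [Finite G] [Fact p.Prime] in
theorem controls_iff_family (w : Subgroup G → Subgroup G) (H : Subgroup G) :
    ControlsStrongFusionIn p w H ↔ FamilyControlsStrongFusionIn p {w} H := by
  refine exists_congr fun T => and_congr_right fun _ => and_congr_right fun _ =>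
    and_congr_right fun _ => ?_
  rw [← fusionCtl_iff_fin]
  refine forall₂_congr fun A h => ⟨fun hx hh hA hc => ?_, fun hr hh hA hc => ?_⟩
  · obtain ⟨x, hx, he⟩ := hx hh hA hc
    have h1 : x ∈ steps {w} H T := ⟨w, rfl, hx⟩
    refine (Reach.single h1 ?_).congr fun a ha => (he a ha).symm
    rw [cimg_congr he]
    exact hc
  · have := hr hh hA hc
    rw [steps_singleton] at this
    exact this.exists_mem

end Cfsg.Agent.Techniques.Functor
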