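import Cfsg.Agent.Techniques.Functor.FusionMain
import Mathlib.GroupTheory.Transfer
import Mathlib.GroupTheory.Abelianization.Defs

/-!
Control of transfer is inherited from the constrained sections.
-/

set_option autoImplicit false

namespace Cfsg.Agent.Techniques.Functor

universe u

open Cfsg Subgroup Cfsg.Agent.Fusion.SylIn Cfsg.Agent.PLocal.Cores

variable {p : ℕ} [Fact p.Prime] {𝓦 : Set (∀ (Q : Type u) [Group Q], Subgroup Q)}
variable {G H : Type u} [Group G] [Group H] [Finite G]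

/-- An element of `S ∩ G'` all of whose conjugates agree with it modulo the kernel of `φ` is in the kernel. -/
theorem map_eq_one_of_conj_congr {S : Subgroup G} {A : Type*} [CommGroup A] (φ : S →* A)
    (hS : IsPGroup p S) (hdvd : ¬ p ∣ S.index) {x : G} (hx : x ∈ S) (hxG : x ∈ commutator G)
    (h : ∀ g : G, ∃ hg : g⁻¹ * x * g ∈ S, φ ⟨g⁻¹ * x * g, hg⟩ = φ ⟨x, hx⟩) : φ ⟨x, hx⟩ = 1 := by
  classical
  let := S.fintypeQuotientOfFiniteIndex
  let : Fintype (Quotient (MulAction.orbitRel (zpowers x) (G ⧸ S))) := Fintype.ofFinite _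
  have h1 : MonoidHom.transfer φ x = 1 :=
    Abelianization.commutator_subset_ker (MonoidHom.transfer φ) hxG
  rw [MonoidHom.transfer_eq_prod_quotient_orbitRel_zpowers_quot] at h1
  have h2 : ∀ (n : ℕ) (g : G) (hm : g⁻¹ * x ^ n * g ∈ S),
      φ ⟨g⁻¹ * x ^ n * g, hm⟩ = φ ⟨x, hx⟩ ^ n := by
    intro n g hm
    obtain ⟨hg, he⟩ := h g
    rw [← he, ← map_pow]
    congr 1
    refine Subtype.ext ?_
    have := conj_pow (a := g⁻¹) (b := x) (i := n)
    rw [inv_inv] at this
    simpa using this.symm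
  simp only [h2, Finset.prod_pow_eq_pow_sum, ← Subgroup.index_eq_sum_minimalPeriod] at h1
  obtain ⟨k, hk⟩ := IsPGroup.iff_orderOf.mp hS ⟨x, hx⟩
  have h3 : orderOf (φ ⟨x, hx⟩) ∣ p ^ k := hk ▸ orderOf_map_dvd φ _
  rw [← orderOf_eq_one_iff]
  exact Nat.eq_one_of_dvd_coprimes
    (Nat.Coprime.pow_left k ((Fact.out : p.Prime).coprime_iff_not_dvd.mpr hdvd)) h3
    (orderOf_dvd_of_pow_eq_one h1)

/-- The part of a Sylow subgroup seen by the normalizers of the functor values. -/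
def kk (𝓦 : Set (∀ (Q : Type u) [Group Q], Subgroup Q)) (S : Subgroup G) : Subgroup G :=
  ⨆ w ∈ induced 𝓦 G, S ⊓ ⁅normalizer ((w S : Subgroup G) : Set G), normalizer ((w S : Subgroup G) : Set G)⁆

omit [Finite G] in
theorem kk_le (S : Subgroup G) : kk 𝓦 S ≤ S := iSup₂_le fun _ _ => inf_le_left

omit [Finite G] in
theorem le_kk {W : ∀ (Q : Type u) [Group Q], Subgroup Q} (hW : W ∈ 𝓦) (S : Subgroup G) :
    S ⊓ ⁅normalizer ((inducedFunctor W S : Subgroup G) : Set G),
      normalizer ((inducedFunctor W S : Subgroup G) : Set G)⁆ ≤ kk 𝓦 S :=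
  le_iSup₂ (f := fun (w : Subgroup G → Subgroup G) (_ : w ∈ induced 𝓦 G) =>
    S ⊓ ⁅normalizer ((w S : Subgroup G) : Set G), normalizer ((w S : Subgroup G) : Set G)⁆)
    _ ⟨W, hW, rfl⟩

/-- The functors control transfer in `G`. -/
def TC (p : ℕ) (𝓦 : Set (∀ (Q : Type u) [Group Q], Subgroup Q)) (G : Type u) [Group G] : Prop :=
  ∀ S : Sylow p G, (S : Subgroup G) ⊓ commutator G ≤ kk 𝓦 (S : Subgroup G)

theorem tc_iff (h𝓦 : ∀ W ∈ 𝓦, IsCharPFunctor.{u} p W) :
    FamilyControlsTransferIn p (induced 𝓦 G) ⊤ ↔ TC p 𝓦 G := by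
  have e : ∀ S : Sylow p G, TransferCtl (induced 𝓦 G) ⊤ (S : Subgroup G) ↔
      (S : Subgroup G) ⊓ commutator G ≤ kk 𝓦 (S : Subgroup G) := fun S => by
    rw [TransferCtl, kk, ← commutator_def]
    simp only [top_inf_eq]
  exact ⟨fun h S => (e S).mp
      (transferCtl_of_familyControls (isConjugacyFunctor_of_mem h𝓦) (of_sylow S) h),
    fun h => familyControlsTransfer_of_ctl (of_sylow default) ((e default).mpr (h default))⟩

theorem tc_sub (h𝓦 : ∀ W ∈ 𝓦, IsCharPFunctor.{u} p W) {L T : Subgroup G}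
    (hT : SylIn p T L) (h : TC p 𝓦 L) : TransferCtl (induced 𝓦 G) L T := by
  obtain ⟨R, rfl⟩ := exists_sylow_map hT
  have h1 := map_mono (f := L.subtype) (h R)
  rw [Subgroup.map_inf _ _ _ L.subtype_injective, Subgroup.map_subtype_commutator] at h1
  refine h1.trans ?_
  rw [kk]
  simp only [Subgroup.map_iSup]
  refine iSup₂_le ?_
  rintro _ ⟨W, hW, rfl⟩
  refine le_trans ?_ (le_iSup₂ (inducedFunctor (G := G) W) ⟨W, hW, rfl⟩)
  rw [Subgroup.map_inf _ _ _ L.subtype_injective, Subgroup.map_commutator]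
  refine inf_le_inf_left _ ?_
  have e : (normalizer (inducedFunctor W (R : Subgroup L) : Set L)).map L.subtype ≤
      L ⊓ normalizer (inducedFunctor W ((R : Subgroup L).map L.subtype) : Set G) := by
    refine le_inf (map_subtype_le _) ?_
    rw [← induced_map_of_injective (h𝓦 W hW) L.subtype_injective R.2]
    exact le_normalizer_map _
  exact commutator_mono e e

theorem inf_commutator_le_of_sub (h𝓦 : ∀ W ∈ 𝓦, IsCharPFunctor.{u} p W) (S : Sylow p G)
    {L : Subgroup G} (hS : (S : Subgroup G) ≤ L) (h : TC p 𝓦 L) :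
    (S : Subgroup G) ⊓ ⁅L, L⁆ ≤ kk 𝓦 (S : Subgroup G) :=
  (tc_sub h𝓦 (sylIn_of_le S hS) h).trans (iSup₂_le fun w hw =>
    le_trans (inf_le_inf_left _ (commutator_mono inf_le_right inf_le_right))
      (le_iSup₂ (f := fun (w : Subgroup G → Subgroup G) (_ : w ∈ induced 𝓦 G) =>
        (S : Subgroup G) ⊓ ⁅normalizer ((w (S : Subgroup G) : Subgroup G) : Set G),
          normalizer ((w (S : Subgroup G) : Subgroup G) : Set G)⁆) w hw))

theorem tc_equiv [Finite H] (h𝓦 : ∀ W ∈ 𝓦, IsCharPFunctor.{u} p W) (e : G ≃* H)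
    (h : TC p 𝓦 G) : TC p 𝓦 H := by
  intro S
  let R : Sylow p G := S.comapOfInjective e.toMonoidHom e.injective fun x _ => e.surjective x
  have hR : (R : Subgroup G).map e.toMonoidHom = S :=
    map_comap_eq_self_of_surjective e.surjective _
  have h1 := map_mono (f := e.toMonoidHom) (h R)
  rw [Subgroup.map_inf _ _ _ e.injective, hR,
    show (commutator G).map e.toMonoidHom = commutator H by
      rw [commutator_def, map_commutator, map_top_of_surjective _ e.surjective, ← commutator_def]]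
    at h1
  refine h1.trans ?_
  rw [kk]
  simp only [Subgroup.map_iSup]
  refine iSup₂_le ?_
  rintro _ ⟨W, hW, rfl⟩
  refine le_trans ?_ (le_kk hW (S : Subgroup H))
  rw [Subgroup.map_inf _ _ _ e.injective, map_commutator, hR]
  refine inf_le_inf_left _ ?_
  have e2 : (normalizer (inducedFunctor W (R : Subgroup G) : Set G)).map e.toMonoidHom ≤
      normalizer (inducedFunctor W (S : Subgroup H) : Set H) := by
    refine (le_normalizer_map _).trans ?_
    rw [induced_map_of_injective (h𝓦 W hW) (f := e.toMonoidHom) e.injective R.2, hR]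
  exact commutator_mono e2 e2

theorem tc_of_coprime_ker [Finite H] (h𝓦 : ∀ W ∈ 𝓦, IsCharPFunctor.{u} p W) {f : G →* H}
    (hf : Function.Surjective f) (hK : (Nat.card f.ker).Coprime p) (h : TC p 𝓦 H) :
    TC p 𝓦 G := by
  intro S x hx
  let Sb : Sylow p H := S.mapSurjective hf
  have hinj : ∀ y ∈ (S : Subgroup G), f y = 1 → y = 1 := fun y hy he =>
    eq_one_of_mem_coprime S.2 hK hy he
  have hfx : f x ∈ (kk 𝓦 (S : Subgroup G)).map f := by
    refine (h Sb).trans ?_ (mem_inf.mpr ⟨mem_map_of_mem f (mem_inf.mp hx).1, ?_⟩)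
    swap
    · have := mem_map_of_mem f (mem_inf.mp hx).2
      rwa [commutator_def, map_commutator, map_top_of_surjective _ hf, ← commutator_def] at this
    refine iSup₂_le ?_
    rintro _ ⟨W, hW, rfl⟩
    set X := inducedFunctor W (S : Subgroup G) with hXdef
    set N := normalizer (X : Set G) with hNdef
    have hWf : IsConjugacyFunctor p (inducedFunctor (G := G) W) :=
      isConjugacyFunctor_induced (h𝓦 W hW)
    have hX : X ≤ S := functor_le hWf S.2
    have hSN : (S : Subgroup G) ≤ N := le_normalizer.trans (normalizer_le_functor hWf S.2)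
    have hXf : X.map f = inducedFunctor W (Sb : Subgroup H) := induced_map (h𝓦 W hW) f S.2 hinj
    have hNf : normalizer (inducedFunctor W (Sb : Subgroup H) : Set H) ≤ N.map f := by
      intro z hz
      obtain ⟨z0, rfl⟩ := hf z
      rw [← hXf] at hz
      have hle : X.map (cnj z0) ≤ X ⊔ f.ker := by
        rw [← comap_map_eq, ← map_le_iff_le_comap]
        rintro _ ⟨_, ⟨y, hy, rfl⟩, rfl⟩
        simpa [map_mul, map_inv] using
          (Subgroup.mem_normalizer_iff.mp hz (f y)).mp (mem_map_of_mem f hy)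
      obtain ⟨c, hc', hcX⟩ := exists_conj_le_of_not_dvd_relIndex (le_sup_left : X ≤ X ⊔ f.ker)
        (S.2.to_le hX) (relIndex_sup_coprime hK (le_top.trans (normalizer_eq_top (H := f.ker)).ge))
        ((S.2.to_le hX).map (cnj z0)) hle
      obtain ⟨x0, hx0, k, hk, rfl⟩ := mem_sup_of_normal_right.mp hc'
      refine ⟨k * z0, ?_, by rw [map_mul, MonoidHom.mem_ker.mp hk, one_mul]⟩
      rw [SetLike.mem_coe, hNdef, ← map_cnj_eq_self]
      refine eq_of_le_of_card_ge (map_cnj_le_iff.mpr fun y hy => ?_) (card_map_cnj _ _).ge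
      have h3 := hcX _ (conj_mem_map_conj hy)
      have h4 := X.mul_mem (X.mul_mem (X.inv_mem hx0) h3) hx0
      simpa [mul_assoc] using h4
    -- the Sylow subgroup of `N'` maps onto the Sylow subgroup of the image
    have hsyl : SylIn p ((S : Subgroup G) ⊓ ⁅N, N⁆) ⁅N, N⁆ :=
      (sylIn_of_le S hSN).inf_normal (commutator_le_self N)
        (le_normalizer_iff_commutator_le_left.mpr
          (commutator_mono (commutator_le_self N) le_rfl))
    intro y hy
    obtain ⟨hyS, hyN⟩ := mem_inf.mp hy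
    have hyN' : y ∈ ⁅N, N⁆.map f := by
      rw [map_commutator]
      exact commutator_mono hNf hNf hyN
    obtain ⟨n, hn, rfl⟩ := hyN'
    obtain ⟨s, hs, e⟩ := (hyS : f n ∈ (S : Subgroup G).map f)
    -- `n` lies in a subgroup with Sylow subgroup `S ∩ N'`
    set D := ⁅N, N⁆ ⊓ ((S : Subgroup G) ⊔ f.ker) with hD
    have hnD : n ∈ D := by
      refine mem_inf.mpr ⟨hn, ?_⟩
      rw [← comap_map_eq]
      exact ⟨s, hs, e⟩
    obtain ⟨m, hm⟩ := Cfsg.Agent.Transfer.NormalPComplement.exists_pow_coprime (p := p)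
      (orderOf_pos n).ne'
    have hker : n ^ p ^ m ∈ f.ker := by
      obtain ⟨j, hj⟩ := IsPGroup.iff_orderOf.mp S.2 ⟨s, hs⟩
      rw [Subgroup.orderOf_mk] at hj
      have h1 : orderOf (f n ^ p ^ m) ∣ p ^ j := by
        rw [← e, ← map_pow, ← hj]
        exact (orderOf_map_dvd f _).trans (orderOf_pow_dvd _)
      have h2 : orderOf (f n ^ p ^ m) ∣ orderOf (n ^ p ^ m) := by
        rw [← map_pow]; exact orderOf_map_dvd f _
      rw [MonoidHom.mem_ker, map_pow, ← orderOf_eq_one_iff]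
      exact Nat.eq_one_of_dvd_coprimes (hm.pow_right j).symm h1 h2
    -- write `n` as a `p`-element times an element of the kernel
    obtain ⟨i, hi⟩ : ∃ i, f n ^ i = f n ∧ ∃ l, orderOf (n ^ i) = p ^ l := by
      set q := orderOf (n ^ p ^ m) with hq
      obtain ⟨l0, hl0⟩ : ∃ l0, orderOf (f n) = p ^ l0 := by
        obtain ⟨j, hj⟩ := IsPGroup.iff_orderOf.mp S.2 ⟨s, hs⟩
        rw [Subgroup.orderOf_mk] at hj
        obtain ⟨l, -, hl⟩ := (Nat.dvd_prime_pow (Fact.out : p.Prime)).mp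
          (hj ▸ orderOf_map_dvd f s)
        exact ⟨l, e ▸ hl⟩
      obtain ⟨i, hi1, hi2⟩ : ∃ i, i ≡ 1 [MOD p ^ l0] ∧ i ≡ 0 [MOD q] :=
        ⟨_, (Nat.chineseRemainder (hm.pow_right l0).symm 1 0).2⟩
      refine ⟨i, ?_, ?_⟩
      · conv_rhs => rw [← pow_one (f n)]
        rw [pow_eq_pow_iff_modEq, hl0]
        exact hi1
      · obtain ⟨i', rfl⟩ := (Nat.modEq_zero_iff_dvd.mp hi2)
        have h1 : (n ^ (q * i')) ^ p ^ m = 1 := by
          rw [← pow_mul, mul_comm, pow_mul, pow_mul, hq, pow_orderOf_eq_one, one_pow]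
        obtain ⟨l, -, hl⟩ := (Nat.dvd_prime_pow (Fact.out : p.Prime)).mp
          (orderOf_dvd_of_pow_eq_one h1)
        exact ⟨l, hl⟩
    obtain ⟨l, hl⟩ := hi.2
    have hAD : (S : Subgroup G) ⊓ ⁅N, N⁆ ≤ D := le_inf inf_le_right (inf_le_left.trans le_sup_left)
    obtain ⟨c, hc, hcle⟩ := exists_conj_le_of_not_dvd_relIndex hAD (S.2.to_le inf_le_left)
      (fun hd => hsyl.2.2 (hd.trans (Dvd.intro _ (relIndex_mul_relIndex _ D _ hAD inf_le_left))))
      (isPGroup_zpowers hl) (zpowers_le.mpr (D.pow_mem hnD i))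
    obtain ⟨s0, hs0, k, hk, rfl⟩ := mem_sup_of_normal_right.mp (mem_inf.mp hc).2
    have h5 : s0 * k * n ^ i * (s0 * k)⁻¹ ∈ (S : Subgroup G) ⊓ ⁅N, N⁆ := hcle _ (mem_zpowers _)
    have h6 : s0⁻¹ * (s0 * k * n ^ i * (s0 * k)⁻¹) * s0 ∈ (S : Subgroup G) ⊓ ⁅N, N⁆ := by
      refine mem_inf.mpr ⟨Subgroup.mul_mem _ (Subgroup.mul_mem _ (Subgroup.inv_mem _ hs0)
        (mem_inf.mp h5).1) hs0, ?_⟩
      have hn0 : s0⁻¹ ∈ normalizer ((⁅N, N⁆ : Subgroup G) : Set G) :=
        le_normalizer_iff_commutator_le_left.mpr (commutator_mono (commutator_le_self N) le_rfl)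
          (N.inv_mem (hSN hs0))
      simpa using (Subgroup.mem_normalizer_iff.mp hn0 _).mp (mem_inf.mp h5).2
    refine ⟨_, le_kk hW _ h6, ?_⟩
    simp [map_mul, map_inv, MonoidHom.mem_ker.mp hk, mul_assoc, map_pow, hi.1]
  obtain ⟨y, hy, he⟩ := hfx
  have : y = x := mul_inv_eq_one.mp (hinj _ (Subgroup.mul_mem _ (kk_le _ hy)
    (Subgroup.inv_mem _ (mem_inf.mp hx).1)) (by rw [map_mul, map_inv, he, mul_inv_cancel]))
  exact this ▸ hy

/-- Outside the core, transfer is controlled once the proper subgroups and quotients are. -/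
theorem inf_commutator_le_sup (h𝓦 : ∀ W ∈ 𝓦, IsCharPFunctor.{u} p W) (S : Sylow p G)
    (hsub : ∀ L : Subgroup G, L ≠ ⊤ → TC p 𝓦 L)
    (hquot : TC p 𝓦 (G ⧸ pCore p G)) :
    (S : Subgroup G) ⊓ commutator G ≤ kk 𝓦 (S : Subgroup G) ⊔ (pCore p G ⊓ commutator G) := by
  set Q := pCore p G with hQdef
  set f := QuotientGroup.mk' Q with hf
  have hQS : Q ≤ S := pCore_le_sylow S
  by_cases hSQ : (S : Subgroup G) = Q
  · rw [hSQ]; exact le_sup_right
  let Sb : Sylow p (G ⧸ Q) := S.mapSurjective (QuotientGroup.mk'_surjective Q)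
  have hcomap : (Sb : Subgroup (G ⧸ Q)).comap f = S := by
    refine comap_map_eq_self ?_
    rw [QuotientGroup.ker_mk']
    exact hQS
  intro x hx
  have hfx : f x ∈ (kk 𝓦 (S : Subgroup G)).map f := by
    refine (hquot Sb).trans ?_ (mem_inf.mpr ⟨mem_map_of_mem f (mem_inf.mp hx).1, ?_⟩)
    swap
    · have := mem_map_of_mem f (mem_inf.mp hx).2
      rwa [commutator_def, map_commutator, map_top_of_surjective _
        (QuotientGroup.mk'_surjective Q), ← commutator_def] at this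
    refine iSup₂_le ?_
    rintro _ ⟨W, hW, rfl⟩
    have hWf : IsConjugacyFunctor p (inducedFunctor (G := G ⧸ Q) W) :=
      isConjugacyFunctor_induced (h𝓦 W hW)
    set V := inducedFunctor W (Sb : Subgroup (G ⧸ Q)) with hVdef
    set L := (normalizer (V : Set (G ⧸ Q))).comap f with hLdef
    have hSL : (S : Subgroup G) ≤ L := by
      rw [hLdef, ← map_le_iff_le_comap]
      exact le_normalizer.trans (normalizer_le_functor hWf Sb.2)
    have hne : L ≠ ⊤ := by
      intro e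
      have h0 : normalizer (V : Set (G ⧸ Q)) = ⊤ :=
        comap_injective (QuotientGroup.mk'_surjective Q) (e.trans (comap_top f).symm)
      have : V.Normal := normalizer_eq_top_iff.mp h0
      have hV : V = ⊥ := le_bot_iff.mp ((le_pCore (Sb.2.to_le (functor_le hWf Sb.2))).trans
        (pCore_quotient_pCore).le)
      have hSb : (Sb : Subgroup (G ⧸ Q)) = ⊥ :=
        by_contra fun hne => functor_ne_bot hWf Sb.2 hne hV
      exact hSQ (by rw [← hcomap, hSb, MonoidHom.comap_bot, QuotientGroup.ker_mk'])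
    intro y hy
    obtain ⟨hyS, hyN⟩ := mem_inf.mp hy
    have h1 : y ∈ ⁅L, L⁆.map f := by
      rwa [map_commutator, map_comap_eq_self_of_surjective (QuotientGroup.mk'_surjective Q)]
    obtain ⟨a, ha, rfl⟩ := h1
    exact mem_map_of_mem f (inf_commutator_le_of_sub h𝓦 S hSL (hsub L hne)
      (mem_inf.mpr ⟨hcomap.le hyS, ha⟩))
  obtain ⟨k, hk, he⟩ := hfx
  have hq : k⁻¹ * x ∈ Q := by
    rw [← QuotientGroup.eq_one_iff]
    change f (k⁻¹ * x) = 1
    rw [map_mul, map_inv, he, inv_mul_cancel]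
  have hkG : k ∈ commutator G := by
    refine (iSup₂_le fun w _ => ?_ : kk 𝓦 (S : Subgroup G) ≤ commutator G) hk
    rw [commutator_def]
    exact inf_le_right.trans (commutator_mono le_top le_top)
  have := mul_mem_sup hk (mem_inf.mpr ⟨hq, Subgroup.mul_mem _ (Subgroup.inv_mem _ hkG)
    (mem_inf.mp hx).2⟩ : k⁻¹ * x ∈ Q ⊓ commutator G)
  rwa [mul_inv_cancel_left] at this

theorem tc_step (h𝓦 : ∀ W ∈ 𝓦, IsCharPFunctor.{u} p W)
    (hsub : ∀ L : Subgroup G, L ≠ ⊤ → TC p 𝓦 L)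
    (hquot : ∀ (N : Subgroup G) [N.Normal], N ≠ ⊥ → TC p 𝓦 (G ⧸ N))
    (hcons : centralizer (pCore p G : Set G) ≤ pCore p G →
      ∀ S : Sylow p G, pCore p G ⊓ commutator G ≤ kk 𝓦 (S : Subgroup G)) : TC p 𝓦 G := by
  rcases ne_or_eq (pPrimeCore p G) ⊥ with hK | hK
  · refine tc_of_coprime_ker h𝓦 (QuotientGroup.mk'_surjective _) ?_ (hquot _ hK)
    rw [QuotientGroup.ker_mk']
    exact coprime_card_pPrimeCore
  intro S
  rcases eq_or_ne (pCore p G) ⊥ with hQ | hQ
  · refine ((tc_iff h𝓦).mp (transfer_local_global S (isConjugacyFunctor_of_mem h𝓦)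
      (selection_sylIn S) fun V hV hne hg => ?_)) S
    refine familyControlsTransfer_of_ctl hg (tc_sub h𝓦 hg (hsub _ fun e => hne ?_))
    have : V.Normal := normalizer_eq_top_iff.mp e
    exact le_bot_iff.mp (hQ ▸ le_pCore (S.2.to_le hV))
  by_cases hCQ : centralizer (pCore p G : Set G) ≤ pCore p G
  · exact (inf_commutator_le_sup h𝓦 S hsub (hquot _ hQ)).trans (sup_le le_rfl (hcons hCQ S))
  set Q := pCore p G with hQdef
  set C := centralizer (Q : Set G) with hCdef
  set K := kk 𝓦 (S : Subgroup G) with hKdef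
  have hCn : C.Normal := by rw [hCdef]; infer_instance
  have hQS : Q ≤ S := pCore_le_sylow S
  have hQn : Q.Normal := pCore_normal'
  have hStop : (S : Subgroup G) ≠ ⊤ := by
    intro e
    have := isPGroup_iff_pCore_eq_top.mp ((e ▸ S.2 : IsPGroup p (⊤ : Subgroup G)).of_equiv topEquiv)
    exact hCQ (by rw [← hQdef] at this; rw [this]; exact le_top)
  set C1 := Q ⊔ C with hC1
  have hC1n : C1.Normal := sup_normal _ _
  set S0 := (S : Subgroup G) ⊓ C1 with hS0
  have hS0syl : SylIn p S0 C1 :=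
    (of_sylow S).inf_normal le_top (by rw [normalizer_eq_top_iff.mpr hC1n])
  have hSS0 : (S : Subgroup G) ≤ normalizer (S0 : Set G) := by
    intro s hs
    rw [← map_cnj_eq_self, hS0, Subgroup.map_inf _ _ _ (MulAut.conj s).injective,
      map_cnj_eq_self.mpr (le_normalizer hs),
      map_cnj_eq_self.mpr (normalizer_eq_top_iff.mpr hC1n ▸ mem_top s)]
  have hM : normalizer (S0 : Set G) ≠ ⊤ := by
    intro e
    apply hCQ
    have : S0.Normal := normalizer_eq_top_iff.mp e
    have hS0Q : S0 ≤ Q := le_pCore (S.2.to_le inf_le_left)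
    refine centralizer_pCore_le hK fun x hx ⟨k, hk⟩ => hS0Q ?_
    obtain ⟨b, hb, hle⟩ := exists_conj_le_of_not_dvd_relIndex hS0syl.1 hS0syl.2.1 hS0syl.2.2
      (isPGroup_zpowers hk) (zpowers_le.mpr (mem_sup_right hx) : zpowers x ≤ C1)
    have := this.conj_mem _ (hle x (mem_zpowers x)) b⁻¹
    simpa [mul_assoc] using this
  by_cases htop : (S : Subgroup G) ⊔ C = ⊤
  · refine (inf_commutator_le_sup h𝓦 S hsub (hquot _ hQ)).trans (sup_le le_rfl fun q hq => ?_)
    have h1 : q ∈ (S : Subgroup G) ⊓ ⁅(S : Subgroup G), (S : Subgroup G)⁆ := by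
      refine mem_inf.mpr ⟨hQS (mem_inf.mp hq).1, ?_⟩
      have h2 := map_eq_one_of_conj_congr (Abelianization.of (G := ↥(S : Subgroup G))) S.2
        S.not_dvd_index (hQS (mem_inf.mp hq).1) (mem_inf.mp hq).2 fun g => ?_
      · have h3 : (⟨q, hQS (mem_inf.mp hq).1⟩ : ↥(S : Subgroup G)) ∈ commutator ↥(S : Subgroup G) :=
          (QuotientGroup.eq_one_iff _).mp h2
        have := mem_map_of_mem (S : Subgroup G).subtype h3
        rwa [Subgroup.map_subtype_commutator] at this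
      · have hg : g ∈ C ⊔ (S : Subgroup G) := by rw [sup_comm, htop]; exact mem_top g
        obtain ⟨c, hc, s, hs, rfl⟩ := mem_sup_of_normal_left.mp hg
        have hcq : c⁻¹ * q * c = q := by
          rw [mul_assoc, mem_centralizer_iff.mp hc q (mem_inf.mp hq).1, inv_mul_cancel_left]
        have e : (c * s)⁻¹ * q * (c * s) = s⁻¹ * q * s :=
          calc (c * s)⁻¹ * q * (c * s) = s⁻¹ * (c⁻¹ * q * c) * s := by group
            _ = s⁻¹ * q * s := by rw [hcq]
        have hq' : s⁻¹ * q * s ∈ (S : Subgroup G) :=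
          Subgroup.mul_mem _ (Subgroup.mul_mem _ (Subgroup.inv_mem _ hs)
            (hQS (mem_inf.mp hq).1)) hs
        refine ⟨e ▸ hq', ?_⟩
        rw [show (⟨(c * s)⁻¹ * q * (c * s), e ▸ hq'⟩ : ↥(S : Subgroup G)) =
          (⟨s, hs⟩ : ↥(S : Subgroup G))⁻¹ * ⟨q, hQS (mem_inf.mp hq).1⟩ * ⟨s, hs⟩ from Subtype.ext e,
          map_mul, map_mul, map_inv, mul_comm (Abelianization.of _)⁻¹, mul_assoc,
          inv_mul_cancel, mul_one]
    exact inf_commutator_le_of_sub h𝓦 S le_rfl (hsub _ hStop) h1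
  -- split each conjugation between `N(S0)` and `S C(Q)`
  rw [inf_comm]
  refine Cfsg.Agent.Transfer.Fusion.focal_le_of_fusion S fun x hx g hg => ⟨g, rfl, ?_⟩
  suffices hmain : g * x * g⁻¹ * x⁻¹ ∈ K by
    have := K.inv_mem hmain
    simpa [commutatorElement_def, mul_assoc] using this
  set H1 := (S : Subgroup G) ⊔ C
  obtain ⟨c, hc1, hle⟩ := exists_conj_le_of_not_dvd_relIndex hS0syl.1 hS0syl.2.1 hS0syl.2.2
    ((hS0syl.2.1).map (cnj g))
    ((map_mono hS0syl.1).trans (map_cnj_eq_self.mpr (normalizer_eq_top_iff.mpr hC1n ▸ mem_top g)).le)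
  have hcg : c * g ∈ normalizer (S0 : Set G) := by
    rw [← map_cnj_eq_self, ← map_cnj_cnj]
    exact eq_of_le_of_card_ge (map_cnj_le_iff.mpr hle)
      (by rw [card_map_cnj, card_map_cnj])
  have hC1H : C1 ≤ H1 := sup_le (hQS.trans le_sup_left) le_sup_right
  set X := (zpowers x).map (cnj (c * g)) with hX
  have hXM : X ≤ normalizer (S0 : Set G) ⊓ H1 := by
    refine le_inf ((map_mono ((zpowers_le.mpr hx).trans hSS0)).trans
      (map_cnj_eq_self.mpr (le_normalizer hcg)).le) ?_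
    rw [hX, ← map_cnj_cnj]
    refine (map_mono ((map_le_iff_le_comap.mpr (zpowers_le.mpr hg) :
      (zpowers x).map (cnj g) ≤ (S : Subgroup G)).trans le_sup_left)).trans
      (map_cnj_eq_self.mpr (le_normalizer (hC1H hc1))).le
  have hsylS := sylIn_of_le S (le_inf hSS0 le_sup_left : _ ≤ normalizer (S0 : Set G) ⊓ H1)
  obtain ⟨d, hd, hdX⟩ := exists_conj_le_of_not_dvd_relIndex hsylS.1 hsylS.2.1 hsylS.2.2
    ((S.2.to_le (zpowers_le.mpr hx)).map _) hXM
  have hy : d * (c * g * x * (c * g)⁻¹) * d⁻¹ ∈ (S : Subgroup G) :=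
    hdX _ (conj_mem_map_conj (mem_zpowers x))
  set y := d * (c * g * x * (c * g)⁻¹) * d⁻¹ with hydef
  have h1 : y * x⁻¹ ∈ K := by
    refine inf_commutator_le_of_sub h𝓦 S hSS0 (hsub _ hM)
      (mem_inf.mpr ⟨Subgroup.mul_mem _ hy (Subgroup.inv_mem _ hx), ?_⟩)
    have := commutator_mem_commutator (Subgroup.mul_mem _ (mem_inf.mp hd).1 hcg) (hSS0 hx)
    simpa [commutatorElement_def, hydef, mul_assoc] using this
  have h2 : g * x * g⁻¹ * y⁻¹ ∈ K := by
    refine inf_commutator_le_of_sub h𝓦 S le_sup_left (hsub _ htop)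
      (mem_inf.mpr ⟨Subgroup.mul_mem _ hg (Subgroup.inv_mem _ hy), ?_⟩)
    have := commutator_mem_commutator (H₁ := H1) (H₂ := H1)
      (Subgroup.mul_mem _ (Subgroup.inv_mem _ (hC1H hc1)) (Subgroup.inv_mem _ (mem_inf.mp hd).2))
      (mem_sup_left hy)
    simpa [commutatorElement_def, hydef, mul_assoc] using this
  have := K.mul_mem h2 h1
  simpa [mul_assoc] using this

theorem tc_of_constrained (h𝓦 : ∀ W ∈ 𝓦, IsCharPFunctor.{u} p W)
    (hloc : ∀ (H : Type u) [Group H] [Finite H], IsSec G H →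
      (∀ L : Subgroup H, L ≠ ⊤ → TC p 𝓦 L) →
      (∀ (N : Subgroup H) [N.Normal], N ≠ ⊥ → TC p 𝓦 (H ⧸ N)) →
      centralizer (pCore p H : Set H) ≤ pCore p H →
      ∀ S : Sylow p H, pCore p H ⊓ commutator H ≤ kk 𝓦 (S : Subgroup H)) :
    ∀ (H : Type u) [Group H] [Finite H], IsSec G H → TC p 𝓦 H := by
  intro H
  induction hn : Nat.card H using Nat.strong_induction_on generalizing H with
  | _ n ih =>
  intro _ _ hsec
  subst hn
  have hsub : ∀ L : Subgroup H, L ≠ ⊤ → TC p 𝓦 L := fun L hL =>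
    ih _ (card_subgroup_lt hL) L rfl (hsec.sub L)
  have hquot : ∀ (N : Subgroup H) [N.Normal], N ≠ ⊥ → TC p 𝓦 (H ⧸ N) := fun N _ hN =>
    ih _ (card_quotient_lt hN) (H ⧸ N) rfl (hsec.surj (QuotientGroup.mk'_surjective N))
  exact tc_step h𝓦 hsub hquot (hloc H hsec hsub hquot)

end Cfsg.Agent.Techniques.Functor
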