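import Cfsg.Agent.Base.RecEqns
import Cfsg.Agent.Techniques.Functor.TransferSections
import Cfsg.Agent.Techniques.Functor.TransferCore
import Cfsg.Prelude.Def_LocalEven

/-!
A minimal group in which a set of functors fails to control transfer.
-/

set_option autoImplicit false

namespace Cfsg.Agent.Techniques.Functor

universe u

open Cfsg Subgroup Cfsg.Agent.Fusion.SylIn Cfsg.Agent.PLocal.Cores
open scoped commutatorElement

variable {p : ℕ} [Fact p.Prime] {G : Type u} [Group G] [Finite G]
  {𝓦 : Set (∀ (Q : Type u) [Group Q], Subgroup Q)}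

/-- `G` fails to have control of transfer, all its proper subgroups and quotients having it. -/
structure Minimal (p : ℕ) [Fact p.Prime] (𝓦 : Set (∀ (Q : Type u) [Group Q], Subgroup Q))
    (S : Sylow p G) : Prop where
  functor : ∀ W ∈ 𝓦, IsCharPFunctor.{u} p W
  nonempty : 𝓦.Nonempty
  sub : ∀ L : Subgroup G, L ≠ ⊤ → TC p 𝓦 L
  quot : ∀ (N : Subgroup G) [N.Normal], N ≠ ⊥ → TC p 𝓦 (G ⧸ N)
  fail : ¬ (S : Subgroup G) ⊓ commutator G ≤ kk 𝓦 (S : Subgroup G)

variable {S : Sylow p G} (hm : Minimal p 𝓦 S)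
include hm

theorem Minimal.constrained : centralizer (pCore p G : Set G) ≤ pCore p G := by
  by_contra hc
  exact hm.fail (tc_step hm.functor hm.sub hm.quot (fun h => absurd h hc) S)

theorem Minimal.core_not_le :
    ¬ pCore p G ⊓ commutator G ≤ kk 𝓦 (S : Subgroup G) := by
  intro h
  by_cases hQ : pCore p G = ⊥
  · have := hm.constrained
    rw [hQ] at this
    have h1 : (⊤ : Subgroup G) ≤ ⊥ := le_trans (fun x _ => mem_centralizer_iff.mpr fun y hy => by
      simp [mem_bot.mp hy]) this
    exact hm.fail ((inf_le_left.trans le_top).trans (h1.trans bot_le))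
  · exact hm.fail ((inf_commutator_le_sup hm.functor S hm.sub (hm.quot _ hQ)).trans
      (sup_le le_rfl h))

theorem Minimal.commutator_le_kk : ⁅(S : Subgroup G), (S : Subgroup G)⁆ ≤ kk 𝓦 (S : Subgroup G) := by
  obtain ⟨W, hW⟩ := hm.nonempty
  have h : (S : Subgroup G) ≤ normalizer (inducedFunctor W (S : Subgroup G) : Set G) :=
    le_normalizer.trans (normalizer_le_functor (isConjugacyFunctor_induced (hm.functor W hW)) S.2)
  exact (le_inf (commutator_le_self _) (commutator_mono h h)).trans (le_kk hW _)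

theorem Minimal.normalizer_ne_top : normalizer ((S : Subgroup G) : Set G) ≠ ⊤ := by
  intro e
  obtain ⟨W, hW⟩ := hm.nonempty
  have h : (⊤ : Subgroup G) ≤ normalizer (inducedFunctor W (S : Subgroup G) : Set G) :=
    e.ge.trans (normalizer_le_functor (isConjugacyFunctor_induced (hm.functor W hW)) S.2)
  refine hm.fail (le_trans (inf_le_inf_left _ ?_) (le_kk hW (S : Subgroup G)))
  rw [commutator_def]
  exact commutator_mono h h

theorem Minimal.proper_commutator_le {L : Subgroup G} (hS : (S : Subgroup G) ≤ L) (hL : L ≠ ⊤) :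
    ⁅pCore p G, L⁆ ≤ pCore p G ⊓ ⁅L, L⁆ ∧
      pCore p G ⊓ ⁅L, L⁆ ≤ kk 𝓦 (S : Subgroup G) ⊓ pCore p G :=
  ⟨le_inf (commutator_le_left _ _) (commutator_mono ((pCore_le_sylow S).trans hS) le_rfl),
    le_inf ((inf_le_inf_right _ (pCore_le_sylow S)).trans
      (inf_commutator_le_of_sub hm.functor S hS (hm.sub L hL))) inf_le_left⟩

theorem Minimal.proper_le {L : Subgroup G} (hS : (S : Subgroup G) ≤ L) (hL : L ≠ ⊤) :
    L ≤ normalizer ((kk 𝓦 (S : Subgroup G) ⊓ pCore p G : Subgroup G) : Set G) := by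
  rw [le_normalizer_iff_commutator_le_left]
  exact (commutator_mono inf_le_right le_rfl).trans
    ((hm.proper_commutator_le hS hL).1.trans (hm.proper_commutator_le hS hL).2)

theorem Minimal.sylow_le :
    (S : Subgroup G) ≤ normalizer ((kk 𝓦 (S : Subgroup G) ⊓ pCore p G : Subgroup G) : Set G) :=
  le_normalizer.trans (hm.proper_le le_normalizer hm.normalizer_ne_top)

theorem Minimal.M_ne_top :
    normalizer ((kk 𝓦 (S : Subgroup G) ⊓ pCore p G : Subgroup G) : Set G) ≠ ⊤ := by
  intro e
  set K := kk 𝓦 (S : Subgroup G) with hK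
  set Q := pCore p G with hQ
  set T0 := K ⊓ Q with hT0
  have hT0n : T0.Normal := normalizer_eq_top_iff.mp e
  set f := QuotientGroup.mk' T0 with hf
  set Z := (centralizer (Q.map f : Set (G ⧸ T0))).comap f with hZ
  have hQn : (Q.map f).Normal :=
    (pCore_normal' : (pCore p G).Normal).map f (QuotientGroup.mk'_surjective T0)
  have hZn : Z.Normal := Subgroup.normal_comap f
  have hLZ : ∀ L : Subgroup G, (S : Subgroup G) ≤ L → L ≠ ⊤ → L ≤ Z := by
    intro L hS hL
    rw [hZ, ← map_le_iff_le_comap, ← commutator_eq_bot_iff_le_centralizer, ← map_commutator,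
      Subgroup.map_eq_bot_iff, QuotientGroup.ker_mk', commutator_comm]
    exact (hm.proper_commutator_le hS hL).1.trans (hm.proper_commutator_le hS hL).2
  have hN := hLZ _ le_normalizer hm.normalizer_ne_top
  have hZtop : Z = ⊤ := by
    rw [← top_le_iff, ← S.normalizer_sup_eq_top' (le_normalizer.trans hN : (S : Subgroup G) ≤ Z)]
    exact sup_le hN le_rfl
  apply hm.core_not_le
  intro x hx
  obtain ⟨hxQ, hxG⟩ := mem_inf.mp hx
  have hxS : x ∈ (S : Subgroup G) := pCore_le_sylow S hxQ
  set Kb := (K.subgroupOf (S : Subgroup G)).map (Abelianization.of (G := ↥(S : Subgroup G))) with hKb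
  set φ := (QuotientGroup.mk' Kb).comp (Abelianization.of (G := ↥(S : Subgroup G))) with hφ
  have hφK : ∀ y : ↥(S : Subgroup G), φ y = 1 ↔ (y : G) ∈ K := by
    intro y
    rw [hφ, MonoidHom.comp_apply, QuotientGroup.mk'_apply, QuotientGroup.eq_one_iff, ← mem_comap,
      hKb, comap_map_eq_self, mem_subgroupOf]
    rw [show (Abelianization.of (G := ↥(S : Subgroup G))).ker = commutator ↥(S : Subgroup G) from
      QuotientGroup.ker_mk' _, subgroupOf, ← map_le_iff_le_comap, Subgroup.map_subtype_commutator]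
    exact hm.commutator_le_kk
  refine (hφK ⟨x, hxS⟩).mp (map_eq_one_of_conj_congr φ S.2 S.not_dvd_index hxS hxG fun g => ?_)
  have hgQ : g⁻¹ * x * g ∈ Q := by
    simpa using (pCore_normal' : (pCore p G).Normal).conj_mem x hxQ g⁻¹
  refine ⟨pCore_le_sylow S hgQ, ?_⟩
  rw [← mul_inv_eq_one, ← map_inv, ← map_mul, hφK]
  refine (inf_le_left : T0 ≤ K) ?_
  rw [← QuotientGroup.eq_one_iff]
  change f (g⁻¹ * x * g * x⁻¹) = 1
  have := mem_centralizer_iff.mp (hZtop.ge (mem_top g) : f g ∈ centralizer (Q.map f : Set (G ⧸ T0)))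
    (f x) (mem_map_of_mem f hxQ)
  rw [map_mul, map_mul, map_mul, map_inv, map_inv, mul_assoc _ (f x) (f g), this]
  group

theorem Minimal.exists_bad_factor {u : G} (huS : u ∈ (S : Subgroup G)) (huQ : u ∉ pCore p G) :
    ∃ U V : Subgroup G, IsChiefFactor U V ∧ U ≤ pCore p G ∧
      ¬ iterCommutator U (zpowers u) (p - 1) ≤ V := by
  classical
  set K := kk 𝓦 (S : Subgroup G) with hK
  set Q := pCore p G with hQ
  set T0 := K ⊓ Q with hT0
  set M := normalizer (T0 : Set G) with hMdef
  have hSM : (S : Subgroup G) ≤ M := hm.sylow_le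
  have hQn : Q.Normal := pCore_normal'
  -- the chief factor
  set U0 := Q ⊓ commutator G with hU0
  have hU0n : U0.Normal := inferInstance
  obtain ⟨V, ⟨hVn, hVU0, hVK⟩, hVmax⟩ := (Set.toFinite {N : Subgroup G |
    N.Normal ∧ N ≤ U0 ∧ N ≤ K}).exists_maximal ⟨⊥, inferInstance, bot_le, bot_le⟩
  have hVU0' : V < U0 := lt_of_le_of_ne hVU0 fun e => hm.core_not_le (e.symm.le.trans hVK)
  obtain ⟨U, ⟨hUn, hVU, hUU0⟩, hUmin⟩ := (Set.toFinite {N : Subgroup G |
    N.Normal ∧ V < N ∧ N ≤ U0}).exists_minimal ⟨U0, hU0n, hVU0', le_rfl⟩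
  have hchief : IsChiefFactor U V := by
    refine ⟨hVU, hUn, hVn, fun N hN hVN hNU => ?_⟩
    rcases eq_or_lt_of_le hVN with h | h
    · exact Or.inl h.symm
    · exact Or.inr (le_antisymm hNU (hUmin ⟨hN, h, hNU.trans hUU0⟩ hNU))
  have hUK : ¬ U ≤ K := fun h => (hVU.not_ge (hVmax ⟨hUn, hUU0, h⟩ hVU.le))
  have hUQ : U ≤ Q := hUU0.trans inf_le_left
  refine ⟨U, V, hchief, hUQ, fun hgood => ?_⟩
  -- powers
  have hUp : IsPGroup p U := isPGroup_pCore.to_le hUQ
  have hpow : ∀ y ∈ U, y ^ p ∈ V := by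
    intro y hy
    have hV' : (V.subgroupOf U).Normal := inferInstance
    set N := (frattini U).map U.subtype ⊔ V with hN
    have hNn : N.Normal := by
      have : ((frattini U).map U.subtype).Normal := inferInstance
      exact sup_normal _ _
    rcases hchief.2.2.2 N hNn le_sup_right (sup_le (map_subtype_le _) hVU.le) with h | h
    · rw [← h]
      exact mem_sup_left ⟨⟨y, hy⟩ ^ p, Cfsg.Agent.Solvable.Basics.pow_mem_frattini hUp _, rfl⟩
    · exfalso
      refine hVU.not_ge ?_
      have h1 : V.subgroupOf U = ⊤ := by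
        refine frattini_nongenerating (top_le_iff.mp ?_)
        have h2 : (frattini U ⊔ V.subgroupOf U).map U.subtype = (⊤ : Subgroup U).map U.subtype := by
          rw [Subgroup.map_sup, subgroupOf_map_subtype, inf_eq_left.mpr hVU.le, ← hN, h,
            ← MonoidHom.range_eq_map, Subgroup.range_subtype]
        rw [sup_comm]
        exact (map_injective U.subtype_injective h2).ge
      exact subgroupOf_eq_top.mp h1
  -- the subgroup generated by the good elements
  set gens : Set G := {s | s ∈ (S : Subgroup G) ∧ iterCommutator U (zpowers s) (p - 1) ≤ V} with hg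
  set D := closure gens with hD
  have hconj : ∀ (g s : G), iterCommutator U (zpowers s) (p - 1) ≤ V →
      iterCommutator U (zpowers (g * s * g⁻¹)) (p - 1) ≤ V := by
    intro g s hs
    have hmap : ∀ j, (iterCommutator U (zpowers s) j).map (cnj g) =
        iterCommutator U (zpowers (g * s * g⁻¹)) j := by
      intro j
      induction j with
      | zero => exact map_cnj_eq_self.mpr (normalizer_eq_top_iff.mpr hUn ▸ mem_top g)
      | succ j ih =>
        change (⁅iterCommutator U (zpowers s) j, zpowers s⁆).map (cnj g) = _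
        rw [map_commutator, ih, MonoidHom.map_zpowers]
        rfl
    rw [← hmap]
    exact (map_mono hs).trans (map_cnj_eq_self.mpr (normalizer_eq_top_iff.mpr hVn ▸ mem_top g)).le
  have hDS : D ≤ (S : Subgroup G) := (closure_le _).mpr fun s hs => hs.1
  have hND : normalizer ((S : Subgroup G) : Set G) ≤ normalizer (D : Set G) := by
    intro g hgn
    rw [← map_cnj_eq_self]
    refine eq_of_le_of_card_ge ?_ (card_map_cnj _ _).ge
    rw [map_le_iff_le_comap, closure_le]
    exact fun s hs => subset_closure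
      ⟨(Subgroup.mem_normalizer_iff.mp hgn s).mp hs.1, hconj g s hs.2⟩
  have hDM : normalizer (D : Set G) ≤ M := by
    refine hm.proper_le (le_normalizer.trans hND) fun e => huQ ?_
    have : D.Normal := normalizer_eq_top_iff.mp e
    exact le_pCore (S.2.to_le hDS) (subset_closure ⟨huS, hgood⟩)
  have hUM : U ≤ M := hUQ.trans ((pCore_le_sylow S).trans hSM)
  -- the homomorphism on `M`
  set Tb := (T0.subgroupOf M).map (Abelianization.of (G := M)) with hTb
  set φ := (QuotientGroup.mk' Tb).comp (Abelianization.of (G := M)) with hφ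
  have hker : ∀ y : M, φ y = 1 → (y : G) ∈ Q → (y : G) ∈ T0 := by
    intro y hy hyQ
    rw [hφ, MonoidHom.comp_apply, QuotientGroup.mk'_apply, QuotientGroup.eq_one_iff] at hy
    obtain ⟨t, ht, he⟩ := hy
    have h1 : y * t⁻¹ ∈ commutator M := by
      rw [← QuotientGroup.eq_one_iff]
      change Abelianization.of (y * t⁻¹) = 1
      rw [map_mul, map_inv, he, mul_inv_cancel]
    have h2 := mem_map_of_mem M.subtype h1
    rw [Subgroup.map_subtype_commutator] at h2
    have h3 : ((y * t⁻¹ : M) : G) ∈ Q :=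
      Q.mul_mem hyQ (Q.inv_mem ((inf_le_right : T0 ≤ Q) ht))
    have h4 := ((hm.proper_commutator_le hSM hm.M_ne_top).2) (mem_inf.mpr ⟨h3, h2⟩)
    have h5 := T0.mul_mem h4 ht
    simpa using h5
  have hφT : ∀ y : M, (y : G) ∈ T0 → φ y = 1 := fun y hy => by
    rw [hφ, MonoidHom.comp_apply, QuotientGroup.mk'_apply, QuotientGroup.eq_one_iff]
    exact mem_map_of_mem _ hy
  obtain ⟨x, hxU, hxK⟩ := SetLike.not_le_iff_exists.mp hUK
  let : Fintype (G ⧸ M) := Fintype.ofFinite _
  set F : G ⧸ M → _ := fun q => φ ⟨q.out⁻¹ * x * q.out, conj_mem_of_normal_le hUM hxU q.out⟩ with hF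
  have hFout : ∀ t : G, F (t : G ⧸ M) = φ ⟨t⁻¹ * x * t, conj_mem_of_normal_le hUM hxU t⟩ := fun t =>
    map_conj_of_mem hUM φ hxU (by rw [← QuotientGroup.eq, QuotientGroup.out_eq'])
  have hgen : closure {d : D | (d : G) ∈ gens} = ⊤ := by
    rw [eq_top_iff]
    refine le_of_eq_of_le (closure_closure_coe_preimage (k := gens)).symm ?_
    exact closure_mono fun d hd => hd
  have hper : ∀ d ∈ {d : D | (d : G) ∈ gens}, ∀ q : G ⧸ M,
      ∏ i ∈ Finset.range p, F (d ^ i • q) = 1 := by
    intro d hd q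
    induction q using QuotientGroup.induction_on with
    | _ t =>
    let h : U →* _ := φ.comp
      ((MonoidHom.comp (cnj t⁻¹) U.subtype).codRestrict M fun y => by
        simpa [cnj] using conj_mem_of_normal_le hUM y.2 t)
    have h1 := prod_range_map_conj (p := p) (V := V) h ?_ ?_ (u := ((d : G))⁻¹) ?_ hxU
    · rw [← h1]
      refine Finset.prod_congr rfl fun i _ => ?_
      refine (hFout (((d ^ i : D) : G) * t)).trans (congrArg φ (Subtype.ext ?_))
      simp [cnj, mul_assoc, inv_pow]
    · intro y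
      rw [← map_pow]
      refine hφT _ ?_
      rw [hT0, mem_inf]
      have hy := hVn.conj_mem _ (hpow y y.2) t⁻¹
      refine ⟨hVK (by simpa [cnj] using hy), hUQ (hVU.le (by simpa [cnj] using hy))⟩
    · intro y hy
      refine hφT _ ?_
      have hy' := hVn.conj_mem _ hy t⁻¹
      exact mem_inf.mpr ⟨hVK (by simpa [cnj] using hy'), hUQ (hVU.le (by simpa [cnj] using hy'))⟩
    · rw [zpowers_inv]
      exact hd.2
  have hprod := prod_eq_prod_fixed (p := p) (D := D) (X := G ⧸ M) (S.2.to_le hDS)
    {d : D | (d : G) ∈ gens} hgen F hper ((1 : G) : G ⧸ M) ?_ ?_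
  · refine hxK ((inf_le_left : T0 ≤ K) (hker ⟨x, hUM hxU⟩ ?_ (hUQ hxU)))
    have h1 : MonoidHom.transfer φ x = 1 :=
      Abelianization.commutator_subset_ker (MonoidHom.transfer φ) (mem_inf.mp (hUU0 hxU)).2
    rw [transfer_eq_prod_normal hUM φ hxU, hprod, hFout] at h1
    simpa using h1
  · rw [eq_top_iff]
    intro d _
    rw [MulAction.mem_stabilizer_iff]
    change (((d : G) * 1 : G) : G ⧸ M) = _
    rw [QuotientGroup.eq]
    simpa using hSM (hDS d.2)
  · intro q hq
    induction q using QuotientGroup.induction_on with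
    | _ t =>
    have hle : D.map (cnj t⁻¹) ≤ M := by
      rw [map_cnj_le_iff]
      intro d hd
      have h1 := MulAction.mem_stabilizer_iff.mp (hq.ge (mem_top (⟨d, hd⟩ : D)))
      change ((d * t : G) : G ⧸ M) = t at h1
      rw [eq_comm, QuotientGroup.eq] at h1
      simpa [mul_assoc] using h1
    have hs := sylIn_of_le S hSM
    obtain ⟨m, hm', hmle⟩ := exists_conj_le_of_not_dvd_relIndex hs.1 hs.2.1 hs.2.2
      ((S.2.to_le hDS).map _) hle
    have hN : m * t⁻¹ ∈ normalizer (D : Set G) := by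
      rw [← map_cnj_eq_self]
      refine eq_of_le_of_card_ge ?_ (card_map_cnj _ _).ge
      rw [map_le_iff_le_comap, closure_le]
      intro s hs'
      refine subset_closure ⟨?_, hconj _ s hs'.2⟩
      have := hmle _ (conj_mem_map_conj (g := t⁻¹) (subset_closure hs'))
      simpa [mul_assoc] using this
    rw [QuotientGroup.eq]
    have h2 := M.mul_mem (M.inv_mem hm') (hDM hN)
    simpa using h2

end Cfsg.Agent.Techniques.Functor
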